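import Groth.Agent.AdicFSLib.Main
import Groth.Agent.GRingLib.Transfer
import Groth.Agent.CatLib.Flat

/-!
# Base change of adically formally smooth algebras to quotients, and finite local algebras
-/

set_option autoImplicit false
set_option linter.style.haveILetI false

universe u

open IsLocalRing TensorProduct

namespace AdicFSLib

/-- Adic formal smoothness passes to quotients of the base. -/
theorem adicFS_of_quotient {A B D B' : Type u} [CommRing A] [CommRing B] [CommRing D] [CommRing B'] [IsLocalRing B]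
    [IsLocalRing B'] [Algebra A B] [Algebra A D] [Algebra A B'] [Algebra D B'] [IsScalarTower A D B']
    (hD : Function.Surjective (algebraMap A D)) (g : B →ₐ[A] B') (hg : Function.Surjective g)
    (hker : RingHom.ker g = (RingHom.ker (algebraMap A D)).map (algebraMap A B))
    (h : CAlgX.IsAdicFormallySmooth A B (maximalIdeal B)) : CAlgX.IsAdicFormallySmooth D B' (maximalIdeal B') := by
  intro C _ _ J hJ ψ hψ
  obtain ⟨k, hk⟩ := hψ
  letI : Algebra A C := ((algebraMap D C).comp (algebraMap A D)).toAlgebra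
  haveI : IsScalarTower A D C := .of_algebraMap_eq fun _ => rfl
  obtain ⟨χ, hχ⟩ := h C J hJ ((ψ.restrictScalars A).comp g) ⟨k, fun x hx => hk _ (by
    have h1 := Ideal.mem_map_of_mem g.toRingHom hx
    rw [Ideal.map_pow, IsLocalRing.map_maximalIdeal_of_surjective g.toRingHom hg] at h1
    exact h1)⟩
  have hkill : ∀ b ∈ RingHom.ker g, χ b = 0 := fun b hb => by
    rw [hker] at hb
    have h1 : b ∈ RingHom.ker χ := (Ideal.map_le_iff_le_comap.2 fun a ha => by
      show χ (algebraMap A B a) = 0
      rw [χ.commutes, IsScalarTower.algebraMap_apply A D C, RingHom.mem_ker.1 ha, map_zero]) hb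
    exact h1
  let χ' : B' →ₐ[A] C :=
    (Ideal.Quotient.liftₐ (RingHom.ker g) χ hkill).comp (Ideal.quotientKerAlgEquivOfSurjective hg).symm.toAlgHom
  have hχ' : ∀ b, χ' (g b) = χ b := fun b => by
    have h1 : (Ideal.quotientKerAlgEquivOfSurjective hg).symm (g b) = Ideal.Quotient.mk _ b :=
      (Ideal.quotientKerAlgEquivOfSurjective hg).symm_apply_eq.2 rfl
    simp only [χ', AlgHom.comp_apply]
    exact (congrArg (Ideal.Quotient.liftₐ (RingHom.ker g) χ hkill) h1).trans rfl
  refine ⟨{ χ' with
    commutes' := fun x => ?_ }, AlgHom.ext fun z => ?_⟩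
  · obtain ⟨a, rfl⟩ := hD x
    show χ' (algebraMap D B' (algebraMap A D a)) = _
    rw [← IsScalarTower.algebraMap_apply, χ'.commutes]
    exact IsScalarTower.algebraMap_apply A D C a
  · obtain ⟨b, rfl⟩ := hg z
    show Ideal.Quotient.mk J (χ' (g b)) = _
    rw [hχ']
    exact AlgHom.congr_fun hχ b

/-- A finite local algebra over a complete Noetherian local ring is complete. -/
theorem isAdicComplete_of_finite_local (C₀ : Type u) [CommRing C₀] [IsLocalRing C₀] [IsNoetherianRing C₀]
    [IsAdicComplete (maximalIdeal C₀) C₀] (S : Type u) [CommRing S] [IsLocalRing S] [Algebra C₀ S]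
    [Module.Finite C₀ S] : IsAdicComplete (maximalIdeal S) S := by
  haveI : IsNoetherianRing S := IsNoetherianRing.of_finite C₀ S
  let I := (maximalIdeal C₀).map (algebraMap C₀ S)
  haveI : IsAdicComplete (maximalIdeal C₀) S := CompleteLib.isAdicComplete_of_finite
  haveI : IsAdicComplete I S := (IsAdicComplete.map_algebraMap_iff _ _).2 inferInstance
  haveI : IsAdicComplete ((maximalIdeal S).map (Ideal.Quotient.mk I)) (S ⧸ I) := by
    refine CohenLib.isAdicComplete_of_isNilpotent _ ?_
    obtain ⟨-, j, hj⟩ := NormalLib.exists_pow_jacobson_le (A := C₀) S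
    rw [IsLocalRing.jacobson_eq_maximalIdeal ⊥ bot_ne_top] at hj
    exact ⟨j, by rw [← Ideal.map_pow, Ideal.zero_eq_bot, Ideal.map_eq_bot_iff_le_ker, Ideal.mk_ker]; exact hj⟩
  exact CompleteLib.isAdicComplete_of_quotient I _

/-- A finite local base change of a local algebra with trivial residue extension is local. -/
theorem isLocalRing_tensor (R D C : Type u) [CommRing R] [CommRing D] [CommRing C] [IsLocalRing R] [IsLocalRing D]
    [IsLocalRing C] [Algebra R D] [Algebra R C] [Module.Finite R D] [IsLocalHom (algebraMap R C)]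
    (hres : Function.Surjective ((residue D).comp (algebraMap R D))) :
    IsLocalRing (D ⊗[R] C) ∧ IsLocalHom (algebraMap D (D ⊗[R] C)) := by
  let k := ResidueField D
  haveI : ((maximalIdeal D).comap (algebraMap R D)).IsMaximal :=
    Ideal.isMaximal_comap_of_isIntegral_of_isMaximal _
  have hk : Function.Surjective (algebraMap R k) := hres
  have hkerk : RingHom.ker (algebraMap R k) = maximalIdeal R := by
    haveI := RingHom.ker_isMaximal_of_surjective (algebraMap R k) hk
    exact IsLocalRing.eq_maximalIdeal inferInstance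
  haveI : Nontrivial (D ⊗[R] C) := by
    refine nontrivial_of_ne 1 0 fun h => ?_
    let κ := ResidueField C
    let e := RingHom.quotientKerEquivOfSurjective hk
    let f : (R ⧸ RingHom.ker (algebraMap R k)) →+* κ := Ideal.Quotient.lift _ (algebraMap R κ) fun r hr => by
      rw [IsScalarTower.algebraMap_apply R C κ]
      exact (residue_eq_zero_iff _).2 (map_nonunit (algebraMap R C) r (hkerk ▸ hr : r ∈ maximalIdeal R))
    let fk : k →ₐ[R] κ :=
      { f.comp e.symm.toRingHom with
        commutes' := fun r => by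
          show f (e.symm (algebraMap R k r)) = _
          rw [show e.symm (algebraMap R k r) = Ideal.Quotient.mk _ r from e.symm_apply_eq.2 rfl]
          exact Ideal.Quotient.lift_mk _ _ _ }
    let l : D ⊗[R] C →ₐ[R] κ := Algebra.TensorProduct.lift (fk.comp (IsScalarTower.toAlgHom R D k))
      (IsScalarTower.toAlgHom R C κ) fun _ _ => Commute.all _ _
    have h1 := congrArg l h
    rw [map_one, map_zero] at h1
    exact one_ne_zero h1
  have hC : ∀ N : Ideal (D ⊗[R] C), N.IsMaximal →
      N.comap (Algebra.TensorProduct.includeRight : C →ₐ[R] D ⊗[R] C).toRingHom = maximalIdeal C := fun N hN => by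
    haveI := hN
    letI : Algebra C (D ⊗[R] C) := Algebra.TensorProduct.rightAlgebra
    haveI : Module.Finite C (D ⊗[R] C) :=
      Module.Finite.equiv (AlgEquiv.ofRingEquiv (f := (Algebra.TensorProduct.comm R C D).toRingEquiv)
        fun c => rfl : C ⊗[R] D ≃ₐ[C] D ⊗[R] C).toLinearEquiv
    exact IsLocalRing.eq_maximalIdeal (Ideal.isMaximal_comap_of_isIntegral_of_isMaximal (R := C) N)
  have hD : ∀ N : Ideal (D ⊗[R] C), N.IsMaximal → ∀ d ∈ maximalIdeal D, algebraMap D (D ⊗[R] C) d ∈ N := by
    intro N hN d hd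
    haveI := hN
    have hNC := hC N hN
    have hND : (N.comap (algebraMap D (D ⊗[R] C))).comap (algebraMap R D) = maximalIdeal R := by
      rw [Ideal.comap_comap, ← IsScalarTower.algebraMap_eq,
        ← (Algebra.TensorProduct.includeRight : C →ₐ[R] D ⊗[R] C).comp_algebraMap,
        ← Ideal.comap_comap]
      refine Eq.trans (congrArg (Ideal.comap (algebraMap R C)) hNC) ?_
      exact ((IsLocalRing.local_hom_TFAE (algebraMap R C)).out 0 4).1 ‹_›
    haveI : ((N.comap (algebraMap D (D ⊗[R] C))).comap (algebraMap R D)).IsMaximal := hND ▸ inferInstance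
    have hmax := Ideal.isMaximal_of_isIntegral_of_isMaximal_comap (R := R) (N.comap (algebraMap D (D ⊗[R] C))) ‹_›
    rw [← IsLocalRing.eq_maximalIdeal hmax] at hd
    exact hd
  have hdec : ∀ z : D ⊗[R] C, ∃ c : C, ∀ N : Ideal (D ⊗[R] C), N.IsMaximal → z - 1 ⊗ₜ c ∈ N := by
    intro z
    induction z using TensorProduct.induction_on with
    | zero => exact ⟨0, fun N _ => by simp⟩
    | add x y hx hy =>
      obtain ⟨c, hc⟩ := hx
      obtain ⟨c', hc'⟩ := hy
      refine ⟨c + c', fun N hN => ?_⟩
      have := add_mem (hc N hN) (hc' N hN)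
      rwa [sub_add_sub_comm, ← TensorProduct.tmul_add] at this
    | tmul d c =>
      obtain ⟨r, hr⟩ := hk (residue D d)
      refine ⟨r • c, fun N hN => ?_⟩
      have hdm : d - algebraMap R D r ∈ maximalIdeal D := by
        rw [← residue_eq_zero_iff, map_sub, ← hr]
        exact sub_self _
      have h1 : (d - algebraMap R D r) ⊗ₜ[R] c ∈ N := by
        rw [show (d - algebraMap R D r) ⊗ₜ[R] c =
          algebraMap D (D ⊗[R] C) (d - algebraMap R D r) * (1 : D) ⊗ₜ c by simp]
        exact Ideal.mul_mem_right _ _ (hD N hN _ hdm)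
      rwa [TensorProduct.tmul_smul, TensorProduct.smul_tmul', ← TensorProduct.sub_tmul,
        ← Algebra.algebraMap_eq_smul_one]
  haveI hloc : IsLocalRing (D ⊗[R] C) := by
    obtain ⟨M, hM⟩ := Ideal.exists_maximal (D ⊗[R] C)
    refine IsLocalRing.of_unique_max_ideal ⟨M, hM, fun N hN => hN.eq_of_le hM.ne_top fun z hz => ?_⟩
    obtain ⟨c, hc⟩ := hdec z
    have hcN : (1 : D) ⊗ₜ[R] c ∈ N := by simpa using sub_mem hz (hc N hN)
    have hcM : (1 : D) ⊗ₜ[R] c ∈ M := by
      have h1 : c ∈ N.comap (Algebra.TensorProduct.includeRight : C →ₐ[R] D ⊗[R] C).toRingHom := hcN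
      rw [hC N hN, ← hC M hM] at h1
      exact h1
    simpa using add_mem (hc M hM) hcM
  refine ⟨hloc, ⟨fun d hd => ?_⟩⟩
  by_contra hnd
  exact (maximalIdeal.isMaximal (D ⊗[R] C)).ne_top
    (Ideal.eq_top_of_isUnit_mem _ (hD _ (maximalIdeal.isMaximal _) d hnd) hd)

end AdicFSLib
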