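import Groth.Agent.CohenLib.FSAdic
import Groth.Agent.CompleteLib.Basic
import Groth.Agent.AdicFSLib.GenFibre
import Mathlib.Algebra.TrivSqZeroExt.Basic

/-!
# Extension of derivations along adically formally smooth complete algebras
-/

set_option autoImplicit false
set_option linter.style.haveILetI false
set_option synthInstance.maxHeartbeats 200000
set_option maxHeartbeats 800000

universe u

open IsLocalRing TensorProduct

namespace AdicFSLib

noncomputable section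

theorem hasDerExt_of_adicFS (A : Type u) [CommRing A] (C : Type u) [CommRing C] [IsLocalRing C] [IsNoetherianRing C]
    [IsAdicComplete (maximalIdeal C) C] [Algebra A C]
    (h : CAlgX.IsAdicFormallySmooth A C (maximalIdeal C)) : HasDerExt A C := by
  intro U _ _ _ D
  let r : C →+* (U ⊗[A] C) := (Algebra.TensorProduct.includeRight : C →ₐ[A] (U ⊗[A] C)).toRingHom
  let i : U →+* (U ⊗[A] C) := Algebra.TensorProduct.includeLeftRingHom
  letI : Algebra C (U ⊗[A] C) := Algebra.TensorProduct.rightAlgebra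
  haveI : Module.Finite C (U ⊗[A] C) :=
    Module.Finite.equiv (AlgEquiv.ofRingEquiv (f := (Algebra.TensorProduct.comm A C U).toRingEquiv)
      fun c => rfl : C ⊗[A] U ≃ₐ[C] (U ⊗[A] C)).toLinearEquiv
  haveI : Module.Finite (U ⊗[A] C) (TrivSqZeroExt (U ⊗[A] C) (U ⊗[A] C)) := Module.Finite.equiv (LinearEquiv.refl (U ⊗[A] C) ((U ⊗[A] C) × (U ⊗[A] C)) : ((U ⊗[A] C) × (U ⊗[A] C)) ≃ₗ[(U ⊗[A] C)] (TrivSqZeroExt (U ⊗[A] C) (U ⊗[A] C)))
  haveI : Module.Finite C (TrivSqZeroExt (U ⊗[A] C) (U ⊗[A] C)) := Module.Finite.trans (U ⊗[A] C) (TrivSqZeroExt (U ⊗[A] C) (U ⊗[A] C))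
  let 𝔠 : Ideal (TrivSqZeroExt (U ⊗[A] C) (U ⊗[A] C)) := (maximalIdeal C).map (algebraMap C (TrivSqZeroExt (U ⊗[A] C) (U ⊗[A] C)))
  haveI : IsAdicComplete 𝔠 (TrivSqZeroExt (U ⊗[A] C) (U ⊗[A] C)) :=
    (IsAdicComplete.map_algebraMap_iff _ _).2 (CompleteLib.isAdicComplete_of_finite (I := maximalIdeal C) (M := (TrivSqZeroExt (U ⊗[A] C) (U ⊗[A] C))))
  have halg : ∀ c : C, algebraMap C (TrivSqZeroExt (U ⊗[A] C) (U ⊗[A] C)) c = TrivSqZeroExt.inl (r c) := fun c => rfl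
  let σ : U →+* (TrivSqZeroExt (U ⊗[A] C) (U ⊗[A] C)) :=
    { toFun := fun u => TrivSqZeroExt.inl (i u) + TrivSqZeroExt.inr (i (D u))
      map_one' := by ext <;> simp
      map_mul' := fun x y => by
        refine TrivSqZeroExt.ext ?_ ?_
        · simp [TrivSqZeroExt.fst_mul]
        · simp only [TrivSqZeroExt.snd_add, TrivSqZeroExt.snd_mul, TrivSqZeroExt.fst_add, TrivSqZeroExt.snd_inl,
            TrivSqZeroExt.snd_inr, TrivSqZeroExt.fst_inl, TrivSqZeroExt.fst_inr, zero_add, add_zero,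
            Derivation.leibniz, map_add, map_mul, smul_eq_mul, MulOpposite.smul_eq_mul_unop, MulOpposite.unop_op]
          ring
      map_zero' := by ext <;> simp
      map_add' := fun x y => by ext <;> simp }
  letI : Algebra A (TrivSqZeroExt (U ⊗[A] C) (U ⊗[A] C)) := (σ.comp (algebraMap A U)).toAlgebra
  letI : SMul A (TrivSqZeroExt (U ⊗[A] C) (U ⊗[A] C)) := Algebra.toSMul
  haveI : IsScalarTower A A (TrivSqZeroExt (U ⊗[A] C) (U ⊗[A] C)) :=
    ⟨fun x y z => by rw [smul_eq_mul, Algebra.smul_def, Algebra.smul_def, Algebra.smul_def, map_mul, mul_assoc]⟩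
  let J : Ideal (TrivSqZeroExt (U ⊗[A] C) (U ⊗[A] C)) := RingHom.ker (TrivSqZeroExt.fstHom (U ⊗[A] C) (U ⊗[A] C) (U ⊗[A] C)).toRingHom
  haveI : IsAdicComplete ((maximalIdeal C).map (algebraMap C ((TrivSqZeroExt (U ⊗[A] C) (U ⊗[A] C)) ⧸ J))) ((TrivSqZeroExt (U ⊗[A] C) (U ⊗[A] C)) ⧸ J) :=
    (IsAdicComplete.map_algebraMap_iff _ _).2 (CompleteLib.isAdicComplete_of_finite (I := maximalIdeal C) (M := (TrivSqZeroExt (U ⊗[A] C) (U ⊗[A] C)) ⧸ J))
  haveI : IsHausdorff (𝔠.map (Ideal.Quotient.mk J)) ((TrivSqZeroExt (U ⊗[A] C) (U ⊗[A] C)) ⧸ J) := by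
    have h1 : 𝔠.map (Ideal.Quotient.mk J) = (maximalIdeal C).map (algebraMap C ((TrivSqZeroExt (U ⊗[A] C) (U ⊗[A] C)) ⧸ J)) := by
      rw [Ideal.map_map]
      rfl
    rw [h1]
    infer_instance
  have hJsq : J ^ 2 = ⊥ := by
    rw [eq_bot_iff, pow_two, Ideal.mul_le]
    intro x hx y hy
    rw [Ideal.mem_bot]
    have hx' : x.fst = 0 := hx
    have hy' : y.fst = 0 := hy
    ext <;> simp [hx', hy']
  let u₀ : C →ₐ[A] (TrivSqZeroExt (U ⊗[A] C) (U ⊗[A] C)) ⧸ J :=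
    { (Ideal.Quotient.mk J).comp (algebraMap C (TrivSqZeroExt (U ⊗[A] C) (U ⊗[A] C))) with
      commutes' := fun a => by
        show Ideal.Quotient.mk J (algebraMap C (TrivSqZeroExt (U ⊗[A] C) (U ⊗[A] C)) (algebraMap A C a)) = Ideal.Quotient.mk J (algebraMap A (TrivSqZeroExt (U ⊗[A] C) (U ⊗[A] C)) a)
        rw [Ideal.Quotient.eq]
        show (algebraMap C (TrivSqZeroExt (U ⊗[A] C) (U ⊗[A] C)) (algebraMap A C a) - σ (algebraMap A U a)).fst = 0
        rw [halg]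
        simp [σ, r, i] }
  obtain ⟨v, -, hv⟩ := CohenLib.exists_lift_adicComplete ⊥ (maximalIdeal C) 𝔠
    ((CohenLib.isFormallySmoothAdic_bot_iff _).1 h) ⟨1, by simp⟩ J ⟨2, by rw [hJsq]; exact bot_le⟩ u₀
    ⟨1, by
      rw [pow_one, show u₀.toRingHom = (Ideal.Quotient.mk J).comp (algebraMap C (TrivSqZeroExt (U ⊗[A] C) (U ⊗[A] C))) from rfl, ← Ideal.map_map]⟩
  let σA : U →ₐ[A] (TrivSqZeroExt (U ⊗[A] C) (U ⊗[A] C)) := { σ with commutes' := fun a => rfl }
  let Φ : (U ⊗[A] C) →ₐ[A] (TrivSqZeroExt (U ⊗[A] C) (U ⊗[A] C)) := Algebra.TensorProduct.lift σA v fun _ _ => Commute.all _ _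
  have hfst : ∀ t, (Φ t).fst = t := fun t => by
    induction t using TensorProduct.induction_on with
    | zero => simp
    | add x y hx hy => rw [map_add, TrivSqZeroExt.fst_add, hx, hy]
    | tmul u c =>
      have hvc : (v c).fst = r c := by
        have h1 : v c - algebraMap C (TrivSqZeroExt (U ⊗[A] C) (U ⊗[A] C)) c ∈ J := Ideal.Quotient.eq.1 (AlgHom.congr_fun hv c)
        have h2 : (v c - algebraMap C (TrivSqZeroExt (U ⊗[A] C) (U ⊗[A] C)) c).fst = 0 := h1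
        rw [halg, TrivSqZeroExt.fst_sub, sub_eq_zero] at h2
        exact h2
      show (σ u * v c).fst = u ⊗ₜ c
      rw [TrivSqZeroExt.fst_mul, hvc]
      simp [σ, i, r]
  refine ⟨Derivation.mk' (AddMonoidHom.mk' (fun t => (Φ t).snd) fun x y => by simp).toIntLinearMap
    (fun x y => ?_), fun u => ?_⟩
  · show (Φ (x * y)).snd = x • (Φ y).snd + y • (Φ x).snd
    rw [map_mul, TrivSqZeroExt.snd_mul, hfst, hfst]
    simp [smul_eq_mul, mul_comm]
  · show (Φ (u ⊗ₜ 1)).snd = _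
    simp [Φ, σA, σ, i]

end

end AdicFSLib
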