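import Groth.Agent.AdicFSLib.BaseChange
import Groth.Agent.AdicFSLib.DerExtend
import Groth.Agent.GRingLib.CompleteLocal
import Groth.Agent.CplExcLib.LiftProp
import Groth.Agent.CplExcLib.RegularBase

/-!
# Adically formally smooth maps of complete local rings are regular
-/

set_option autoImplicit false
set_option linter.style.haveILetI false
set_option synthInstance.maxHeartbeats 400000
set_option maxHeartbeats 1600000

universe u

open IsLocalRing TensorProduct GeomRedFibLib

namespace AdicFSLib

/-- A complete Noetherian local domain is finite, with trivial residue extension, over a complete regular local domain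
with a `p`-family in characteristic `p`. -/
theorem exists_regular_base (A : Type u) [CommRing A] [IsDomain A] [IsLocalRing A] [IsNoetherianRing A]
    [IsAdicComplete (maximalIdeal A) A] :
    ∃ (R : Type u) (_ : CommRing R) (_ : IsLocalRing R) (f : R →+* A), IsDomain R ∧ IsRegularLocalRing R ∧
      IsNoetherianRing R ∧ IsAdicComplete (maximalIdeal R) R ∧ Function.Injective f ∧ f.Finite ∧
      Function.Surjective ((residue A).comp f) ∧
      ∀ (p : ℕ) [Fact p.Prime], CharP R p → GRingLib.HasPFamily p R := by
  obtain ⟨Λ, _, n, f, hΛ, hinj, hfin, hres⟩ := Groth.Agent.S0581.result A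
  obtain ⟨hloc, hdom, hreg, hcpl, hchar⟩ : ∃ _ : IsLocalRing Λ, IsDomain Λ ∧ IsRegularRing Λ ∧
      IsAdicComplete (maximalIdeal Λ) Λ ∧ (IsField Λ ∨ CharZero Λ) := by
    rcases hΛ with hF | hC
    · letI := hF.toField
      refine ⟨inferInstance, inferInstance, inferInstance, ?_, Or.inl hF⟩
      exact CohenLib.isAdicComplete_of_isNilpotent _ ⟨1, by rw [pow_one]; exact maximalIdeal_eq_bot⟩
    · have hC' := hC
      obtain ⟨_, _, hc, -⟩ := hC'
      obtain ⟨p, -, -, -, hdom, hchar, -⟩ := CohenLib.cohen_props hC
      exact ⟨inferInstance, hdom, inferInstance, hc, Or.inr hchar⟩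
  haveI := CommAlgDim.isRegularRing_mvPowerSeries Λ n
  haveI : IsNoetherianRing (MvPowerSeries (Fin n) Λ) := CohenLib.isNoetherianRing_mvPowerSeries (Λ := Λ) (n := n)
  haveI : IsDomain (MvPowerSeries (Fin n) Λ) := NoZeroDivisors.to_isDomain _
  haveI : IsRegularLocalRing (MvPowerSeries (Fin n) Λ) := IsRegularLocalRing.of_isRegularRing_of_isLocalRing _
  refine ⟨MvPowerSeries (Fin n) Λ, inferInstance, inferInstance, f, inferInstance, inferInstance, inferInstance,
    ?_, hinj, hfin, hres, fun p _ hp ↦ ?_⟩
  · rw [CohenLib.maximalIdeal_mvPowerSeries]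
    exact CohenLib.isAdicComplete_sup_varsIdeal Λ (maximalIdeal Λ)
  · haveI hΛp : CharP Λ p := (RingHom.charP_iff _ (MvPowerSeries.C_injective (σ := Fin n) (R := Λ)) p).mpr hp
    rcases hchar with hF | hchar
    · letI := hF.toField
      exact GRingLib.hasPFamily_powerSeries p Λ n
    · exact absurd (CharP.eq Λ (CharP.ofCharZero Λ) hΛp).symm (Fact.out : p.Prime).ne_zero

/-- The generic fibre of an adically formally smooth complete algebra over a regular local domain with enough
derivations is geometrically regular. -/
theorem genReg_of_adicFS (R : Type u) [CommRing R] [IsDomain R] [IsRegularLocalRing R]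
    (C : Type u) [CommRing C] [IsLocalRing C] [IsNoetherianRing C] [IsAdicComplete (maximalIdeal C) C] [Algebra R C]
    [IsLocalHom (algebraMap R C)] (h : CAlgX.IsAdicFormallySmooth R C (maximalIdeal C))
    (hder : ∀ (p : ℕ) [Fact p.Prime], CharP R p → GRingLib.HasDer p R) : GRingLib.GenReg R C := by
  haveI : Module.Flat R C := flat_of_adicFS_complete h
  have hfib := isGeometricallyRegular_fibre_of_adicFS h (maximalIdeal R).ResidueField inferInstance
  let F := (maximalIdeal R).Fiber C
  haveI : IsRegularRing F := IsRegularRing.of_ringEquiv (R := (maximalIdeal R).ResidueField ⊗[(maximalIdeal R).ResidueField] F)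
    (Algebra.TensorProduct.lid (maximalIdeal R).ResidueField F).toRingEquiv
  let e : (C ⧸ RingHom.ker (toFibre R C)) ≃+* F :=
    RingHom.quotientKerEquivOfSurjective (f := (toFibre R C).toRingHom) (toFibre_surjective R C)
  have hC : RingP RegLoc C := CplExcLib.ringP_of_regular_base CplExcLib.isLiftProp_regular R C
    (RingP.congr isFlatLocalProp_regular (e.symm.trans (Ideal.quotEquivOfEq (ker_toFibre R C)))
      (fun q _ ↦ IsRegularRing.isRegularLocalRing_localization (R := F) q))
  haveI : IsRegularRing C := (isRegularRing_iff C).mpr hC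
  haveI : IsRegularRing (R ⊗[R] C) :=
    IsRegularRing.of_ringEquiv (R := C) (Algebra.TensorProduct.lid R C).symm.toRingEquiv
  refine genReg_of R C (hasDerExt_of_adicFS R C h) ?_ hder
  exact (ringP_fractionRing_iff isFlatLocalProp_regular R C R (FractionRing R)).mpr fun q _ _ ↦
    IsRegularRing.isRegularLocalRing_localization q

variable {A B : Type u} [CommRing A] [CommRing B] [IsLocalRing A] [IsLocalRing B] [IsNoetherianRing A]
  [IsNoetherianRing B] [IsAdicComplete (maximalIdeal A) A] [IsAdicComplete (maximalIdeal B) B] [Algebra A B]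
  [IsLocalHom (algebraMap A B)]

/-- An adically formally smooth complete algebra over a complete local domain is a base change of one over a
regular local ring, which gives geometric regularity of the generic fibre. -/
theorem ringP_generic_of_adicFS [IsDomain A] (h : CAlgX.IsAdicFormallySmooth A B (maximalIdeal B))
    (L : Type u) [Field L] [Algebra A L] [Algebra (FractionRing A) L] [IsScalarTower A (FractionRing A) L]
    [Module.Finite (FractionRing A) L] : RingP RegLoc (L ⊗[A] B) := by
  obtain ⟨R, _, _, f, _, _, _, _, hinj, hfin, hres, hpf⟩ := exists_regular_base A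
  letI := f.toAlgebra
  haveI : Module.Finite R A := hfin
  obtain ⟨K, _, d, ⟨e⟩⟩ := exists_fibre_powerSeries h
  let FA := (maximalIdeal A).Fiber B
  let θ : R →+* MvPowerSeries (Fin d) K := e.toRingHom.comp ((algebraMap A FA).comp f)
  haveI : ((maximalIdeal A).comap f).IsMaximal := Ideal.isMaximal_comap_of_isIntegral_of_isMaximal (R := R) _
  have hfm : ∀ r ∈ maximalIdeal R, f r ∈ maximalIdeal A := fun r hr ↦ by
    rwa [← Ideal.mem_comap, IsLocalRing.eq_maximalIdeal (I := (maximalIdeal A).comap f) inferInstance]
  obtain ⟨C, _, _, _, g, _, hcC, hflat, hloc, hg, hgθ, hkg⟩ := exists_flat_lift θ fun r hr ↦ by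
    show e (algebraMap A FA (f r)) = 0
    rw [IsScalarTower.algebraMap_apply A (maximalIdeal A).ResidueField,
      Ideal.algebraMap_residueField_eq_zero.2 (hfm r hr), map_zero, map_zero]
  haveI := hcC
  haveI := hflat
  haveI := hloc
  obtain ⟨hlocX, hlocalX⟩ := isLocalRing_tensor R A C hres
  haveI := hlocX
  haveI := hlocalX
  let X := A ⊗[R] C
  letI : Algebra C X := Algebra.TensorProduct.rightAlgebra
  haveI : Module.Finite C X :=
    Module.Finite.equiv (AlgEquiv.ofRingEquiv (f := (Algebra.TensorProduct.comm R C A).toRingEquiv)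
      fun c => rfl : C ⊗[R] A ≃ₐ[C] X).toLinearEquiv
  haveI : IsNoetherianRing X := IsNoetherianRing.of_finite C X
  haveI : IsAdicComplete (maximalIdeal X) X := isAdicComplete_of_finite_local C X
  haveI : Module.Flat A X := Module.Flat.baseChange (R := R) (S := A) (M := C)
  haveI := isLocalRing_fibre A B
  -- the map to the closed fibre
  let gR : C →ₐ[R] FA :=
    { e.symm.toRingHom.comp g with
      commutes' := fun r ↦ by
        show e.symm (g (algebraMap R C r)) = _
        rw [← RingHom.comp_apply g, hgθ]
        exact (e.symm_apply_apply _).trans (IsScalarTower.algebraMap_apply R A FA r).symm }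
  let gX : X →ₐ[A] FA := Algebra.TensorProduct.lift (Algebra.ofId A FA) gR fun _ _ ↦ Commute.all _ _
  have hgX1 : ∀ c, gX (1 ⊗ₜ c) = e.symm (g c) := fun c ↦ by
    refine (Algebra.TensorProduct.lift_tmul (Algebra.ofId A FA) gR (fun _ _ ↦ Commute.all _ _) 1 c).trans ?_
    rw [map_one, one_mul]
    rfl
  have hgX : Function.Surjective gX := fun z ↦ by
    obtain ⟨c, hc⟩ := (e.symm.surjective.comp hg) z
    exact ⟨1 ⊗ₜ c, (hgX1 c).trans hc⟩
  have hkX : RingHom.ker gX = (maximalIdeal A).map (algebraMap A X) := by
    have hmA : ∀ a ∈ maximalIdeal A, gX (algebraMap A X a) = 0 := fun a ha ↦ by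
      rw [gX.commutes, IsScalarTower.algebraMap_apply A (maximalIdeal A).ResidueField,
        Ideal.algebraMap_residueField_eq_zero.2 ha, map_zero]
    refine le_antisymm (fun z hz ↦ ?_) (Ideal.map_le_iff_le_comap.2 fun a ha ↦ hmA a ha)
    have hdec : ∀ z : X, ∃ c : C, z - 1 ⊗ₜ c ∈ (maximalIdeal A).map (algebraMap A X) := fun z ↦ by
      induction z using TensorProduct.induction_on with
      | zero => exact ⟨0, by simp⟩
      | add x y hx hy =>
        obtain ⟨c, hc⟩ := hx
        obtain ⟨c', hc'⟩ := hy
        refine ⟨c + c', ?_⟩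
        have := add_mem hc hc'
        rwa [sub_add_sub_comm, ← TensorProduct.tmul_add] at this
      | tmul a c =>
        obtain ⟨r, hr⟩ := hres (residue A a)
        refine ⟨r • c, ?_⟩
        have ha : a - f r ∈ maximalIdeal A := by
          rw [← residue_eq_zero_iff, map_sub, ← hr]
          exact sub_self _
        rw [TensorProduct.tmul_smul, TensorProduct.smul_tmul', ← TensorProduct.sub_tmul,
          ← Algebra.algebraMap_eq_smul_one, show (a - algebraMap R A r) ⊗ₜ[R] c =
            algebraMap A X (a - f r) * ((1 : A) ⊗ₜ c) by simp [X, RingHom.algebraMap_toAlgebra]]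
        exact Ideal.mul_mem_right _ _ (Ideal.mem_map_of_mem _ ha)
    obtain ⟨c, hc⟩ := hdec z
    have hgc : g c = 0 := by
      have h1 : gX (z - 1 ⊗ₜ c) = 0 :=
        (Ideal.map_le_iff_le_comap.2 (fun a ha ↦ hmA a ha) : (maximalIdeal A).map (algebraMap A X) ≤ RingHom.ker gX) hc
      rw [map_sub, RingHom.mem_ker.1 hz, zero_sub, neg_eq_zero, hgX1] at h1
      exact e.symm.injective (h1.trans (map_zero e.symm).symm)
    have h2 : (1 : A) ⊗ₜ[R] c ∈ (maximalIdeal A).map (algebraMap A X) := by
      have h3 : c ∈ (maximalIdeal R).map (algebraMap R C) := hkg ▸ RingHom.mem_ker.2 hgc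
      have h4 := Ideal.mem_map_of_mem (Algebra.TensorProduct.includeRight : C →ₐ[R] X).toRingHom h3
      rw [Ideal.map_map] at h4
      refine ((Ideal.map_le_iff_le_comap.2 fun r hr ↦ ?_) : _ ≤ (maximalIdeal A).map (algebraMap A X)) h4
      rw [Ideal.mem_comap, RingHom.comp_apply]
      show (1 : A) ⊗ₜ[R] algebraMap R C r ∈ _
      rw [Algebra.algebraMap_eq_smul_one, TensorProduct.tmul_smul, TensorProduct.smul_tmul',
        ← Algebra.algebraMap_eq_smul_one]
      exact Ideal.mem_map_of_mem (algebraMap A X) (hfm r hr)
    simpa using add_mem hc h2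
  obtain ⟨σ, -⟩ := exists_equiv_of_adicFS h (toFibre A B) (toFibre_surjective A B) (ker_toFibre A B) gX hgX hkX
  -- formal smoothness of the lift
  have hCfs : CAlgX.IsAdicFormallySmooth R C (maximalIdeal C) := by
    refine adicFS_of_flat ?_
    haveI := isLocalRing_fibre R C
    intro k' _ _ hk'
    let kR := (maximalIdeal R).ResidueField
    let kA := (maximalIdeal A).ResidueField
    haveI : (maximalIdeal A).LiesOver (maximalIdeal R) :=
      ⟨(IsLocalRing.eq_maximalIdeal (I := (maximalIdeal A).comap f) inferInstance).symm⟩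
    let ρ : kR →+* kA := Ideal.ResidueField.map (maximalIdeal R) (maximalIdeal A) f
      (IsLocalRing.eq_maximalIdeal (I := (maximalIdeal A).comap f) inferInstance).symm
    have hρ : ∀ r, ρ (algebraMap R kR r) = algebraMap A kA (f r) := fun r ↦ Ideal.ResidueField.map_algebraMap _ _ _ _ r
    have hρb : Function.Bijective ρ := ⟨ρ.injective, fun y ↦ by
      obtain ⟨a, rfl⟩ := Ideal.algebraMap_residueField_surjective (maximalIdeal A) y
      obtain ⟨r, hr⟩ := hres (residue A a)
      refine ⟨algebraMap R kR r, ?_⟩
      rw [hρ, ← sub_eq_zero, ← map_sub, Ideal.algebraMap_residueField_eq_zero, ← residue_eq_zero_iff, map_sub, ← hr]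
      exact sub_self _⟩
    let ρe := RingEquiv.ofBijective ρ hρb
    -- the fibres agree
    let eC : (maximalIdeal R).Fiber C ≃+* FA :=
      ((RingHom.quotientKerEquivOfSurjective (f := (toFibre R C).toRingHom) (toFibre_surjective R C)).symm.trans
        (Ideal.quotEquivOfEq ((ker_toFibre R C).trans hkg.symm))).trans
        ((RingHom.quotientKerEquivOfSurjective hg).trans e.symm)
    have heC : ∀ x : kR, eC (algebraMap kR _ x) = algebraMap kA FA (ρ x) := fun x ↦ by
      obtain ⟨r, rfl⟩ := Ideal.algebraMap_residueField_surjective (maximalIdeal R) x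
      rw [hρ, ← IsScalarTower.algebraMap_apply A kA FA, ← IsScalarTower.algebraMap_apply R kR,
        ← (toFibre R C).commutes r]
      simp only [eC, RingEquiv.trans_apply]
      rw [show (RingHom.quotientKerEquivOfSurjective (f := (toFibre R C).toRingHom) (toFibre_surjective R C)).symm
        ((toFibre R C) (algebraMap R C r)) = Ideal.Quotient.mk _ (algebraMap R C r) from
        (RingHom.quotientKerEquivOfSurjective _).symm_apply_eq.2 rfl]
      show e.symm (g (algebraMap R C r)) = _
      rw [← RingHom.comp_apply g, hgθ]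
      exact e.symm_apply_apply _
    letI : Algebra kA k' := ((algebraMap kR k').comp ρe.symm.toRingHom).toAlgebra
    haveI : Module.Finite kA k' := Module.Finite.of_equiv_equiv ρe (RingEquiv.refl k')
      (RingHom.ext fun x ↦ by simp [RingHom.algebraMap_toAlgebra])
    have hA := (isGeometricallyRegular_fibre_of_adicFS h) k' ‹_›
    letI : Algebra kR kA := ρ.toAlgebra
    haveI : IsScalarTower kR kA k' := .of_algebraMap_eq fun x ↦ by
      show algebraMap kR k' x = algebraMap kR k' (ρe.symm (ρ x))
      rw [show ρe.symm (ρ x) = x from ρe.symm_apply_apply x]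
    let eA : (maximalIdeal R).Fiber C ≃ₐ[kR] FA := AlgEquiv.ofRingEquiv (f := eC) heC
    haveI : TensorProduct.CompatibleSMul kR kA k' FA := ⟨fun a m n ↦ by
      obtain ⟨r, rfl⟩ := hρb.2 a
      rw [show ρ r • m = r • m from algebraMap_smul kA r m, show ρ r • n = r • n from algebraMap_smul kA r n,
        TensorProduct.smul_tmul]⟩
    haveI := hA
    let ι : k' ⊗[kR] FA ≃ₐ[kR] k' ⊗[kA] FA :=
      AlgEquiv.ofBijective (Algebra.TensorProduct.mapOfCompatibleSMul kA kR kR k' FA)
        (TensorProduct.equivOfCompatibleSMul kA kR kR k' FA).bijective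
    exact IsRegularRing.of_ringEquiv (R := k' ⊗[kA] FA)
      (ι.symm.toRingEquiv.trans (Algebra.TensorProduct.congr (AlgEquiv.refl : k' ≃ₐ[kR] k') eA.symm).toRingEquiv)
  have hgen := genReg_of_adicFS R C hCfs fun p _ hp ↦ GRingLib.hasDer_self p R (hpf p hp)
  letI : Algebra R L := ((algebraMap A L).comp f).toAlgebra
  haveI : IsScalarTower R A L := .of_algebraMap_eq fun _ ↦ rfl
  haveI : FaithfulSMul R L := (faithfulSMul_iff_algebraMap_injective R L).2 (by
    show Function.Injective ((algebraMap A L).comp f)
    rw [IsScalarTower.algebraMap_eq A (FractionRing A) L]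
    exact ((algebraMap (FractionRing A) L).injective.comp (IsFractionRing.injective A _)).comp hinj)
  letI := FractionRing.liftAlgebra R L
  haveI : Module.Finite (FractionRing R) L := by
    haveI : FaithfulSMul R (FractionRing A) := CplExcLib.faithfulSMul_fractionRing R A hinj
    letI := FractionRing.liftAlgebra R (FractionRing A)
    haveI : FiniteDimensional (FractionRing R) (FractionRing A) :=
      NormalLib.finiteDimensional_fractionRing (R := R) (S := A) _ _ hinj
    haveI : IsScalarTower (FractionRing R) (FractionRing A) L := .of_algebraMap_eq' (IsLocalization.ringHom_ext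
      (nonZeroDivisors R) (RingHom.ext fun r ↦ by
        simp only [RingHom.comp_apply]
        rw [← IsScalarTower.algebraMap_apply, ← IsScalarTower.algebraMap_apply R (FractionRing R) (FractionRing A),
          IsScalarTower.algebraMap_apply R A (FractionRing A), ← IsScalarTower.algebraMap_apply A (FractionRing A) L,
          ← IsScalarTower.algebraMap_apply]))
    exact Module.Finite.trans (FractionRing A) L
  exact RingP.congr isFlatLocalProp_regular
    (((Algebra.TensorProduct.congr (AlgEquiv.refl : L ≃ₐ[A] L) σ).trans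
      ((Algebra.TensorProduct.cancelBaseChange R A A L C))).symm.toRingEquiv) (hgen.ringP L)

end AdicFSLib
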