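import Groth.Agent.AdicFSLib.Regular

/-!
# Adic formal smoothness and completion
-/

set_option autoImplicit false
set_option linter.style.haveILetI false

universe u

open IsLocalRing

namespace AdicFSLib

theorem adicFS_cpl_target {A B : Type u} [CommRing A] [CommRing B] [IsLocalRing B] [IsNoetherianRing B] [Algebra A B]
    (h : CAlgX.IsAdicFormallySmooth A B (maximalIdeal B)) :
    CAlgX.IsAdicFormallySmooth A (AdicCompletion (maximalIdeal B) B)
      (maximalIdeal (AdicCompletion (maximalIdeal B) B)) := by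
  rw [CohenLib.isFormallySmoothAdic_bot_iff, AdicCompletion.maximalIdeal_eq_map]
  exact (Groth.Agent.S2461.result ⊥ (maximalIdeal B)).1 ((CohenLib.isFormallySmoothAdic_bot_iff _).1 h)

/-- Formal smoothness over a ring passes to its completion. -/
theorem adicFS_cpl_source {A B : Type u} [CommRing A] [IsLocalRing A] [IsNoetherianRing A] [CommRing B] [IsLocalRing B]
    [Algebra A B] [Algebra (AdicCompletion (maximalIdeal A) A) B] [IsScalarTower A (AdicCompletion (maximalIdeal A) A) B]
    [IsLocalHom (algebraMap (AdicCompletion (maximalIdeal A) A) B)]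
    (h : CAlgX.IsAdicFormallySmooth A B (maximalIdeal B)) :
    CAlgX.IsAdicFormallySmooth (AdicCompletion (maximalIdeal A) A) B (maximalIdeal B) := by
  intro C _ _ J hJ ψ hψ
  obtain ⟨k, hk⟩ := hψ
  let Ah := AdicCompletion (maximalIdeal A) A
  letI : Algebra A C := ((algebraMap Ah C).comp (algebraMap A Ah)).toAlgebra
  haveI : IsScalarTower A Ah C := .of_algebraMap_eq fun _ => rfl
  obtain ⟨χ, hχ⟩ := h C J hJ (ψ.restrictScalars A) ⟨k, hk⟩
  have hkJ : (maximalIdeal Ah ^ k).map (algebraMap Ah C) ≤ J := Ideal.map_le_iff_le_comap.2 fun x hx => by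
    show algebraMap Ah C x ∈ J
    rw [← Ideal.Quotient.eq_zero_iff_mem]
    refine (ψ.commutes x).symm.trans (hk _ ?_)
    have h1 := Ideal.mem_map_of_mem (algebraMap Ah B) hx
    rw [Ideal.map_pow] at h1
    exact Ideal.pow_right_mono (IsLocalRing.map_maximalIdeal_le _) k h1
  have hχJ : ∀ x ∈ maximalIdeal B ^ k, χ x ∈ J := fun x hx => by
    rw [← Ideal.Quotient.eq_zero_iff_mem]
    exact (AlgHom.congr_fun hχ x).trans (hk x hx)
  refine ⟨{ χ with commutes' := fun x => ?_ }, AlgHom.ext fun b => AlgHom.congr_fun hχ b⟩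
  obtain ⟨a, ha⟩ := Ideal.Quotient.mk_surjective (AdicCompletion.evalₐ (maximalIdeal A) (k + k) x)
  have hz : x - algebraMap A Ah a ∈ maximalIdeal Ah ^ (k + k) := by
    rw [AdicCompletion.maximalIdeal_eq_map, ← Ideal.map_pow,
      ← CohenLib.ker_evalₐ_eq_map (maximalIdeal A) (k + k) (IsNoetherian.noetherian _), RingHom.mem_ker]
    show AdicCompletion.evalₐ (maximalIdeal A) (k + k) (x - algebraMap A Ah a) = 0
    rw [map_sub, AlgHom.commutes, ← ha]
    exact sub_self _
  rw [pow_add] at hz
  have key : ∀ y ∈ maximalIdeal Ah ^ k * maximalIdeal Ah ^ k, χ (algebraMap Ah B y) = 0 ∧ algebraMap Ah C y = 0 := by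
    intro y hy
    induction hy using Submodule.mul_induction_on' with
    | mem_mul_mem y₁ h₁ y₂ h₂ =>
      have hB : ∀ y ∈ maximalIdeal Ah ^ k, algebraMap Ah B y ∈ maximalIdeal B ^ k := fun y hy => by
        have h1 := Ideal.mem_map_of_mem (algebraMap Ah B) hy
        rw [Ideal.map_pow] at h1
        exact Ideal.pow_right_mono (IsLocalRing.map_maximalIdeal_le _) k h1
      have h2 := Ideal.mul_mem_mul (hχJ _ (hB _ h₁)) (hχJ _ (hB _ h₂))
      have h3 := Ideal.mul_mem_mul (hkJ (Ideal.mem_map_of_mem _ h₁)) (hkJ (Ideal.mem_map_of_mem _ h₂))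
      rw [← pow_two, hJ, Ideal.mem_bot] at h2 h3
      constructor
      · rwa [map_mul, map_mul]
      · rwa [map_mul]
    | add y₁ _ y₂ _ h1 h2 =>
      constructor
      · rw [map_add, map_add, h1.1, h2.1, add_zero]
      · rw [map_add, h1.2, h2.2, add_zero]
  obtain ⟨h1, h2⟩ := key _ hz
  rw [map_sub, sub_eq_zero] at h2
  rw [map_sub, map_sub, sub_eq_zero] at h1
  show χ (algebraMap Ah B x) = algebraMap Ah C x
  rw [h1, h2, ← IsScalarTower.algebraMap_apply A Ah B, χ.commutes]
  rfl

end AdicFSLib
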