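import Groth.Prelude.Def_CAlgX
import Mathlib.RingTheory.AdicCompletion.Algebra
import Mathlib.RingTheory.AdicCompletion.Completeness
import Mathlib.RingTheory.Ideal.Quotient.Operations

/-!
# Adic formal smoothness and completion along finitely generated ideals
-/

set_option autoImplicit false
set_option linter.style.haveILetI false

universe u

open AdicCompletion

namespace AdicFSLib

variable {S : Type u} [CommRing S] (I : Ideal S)

theorem mem_map_pow_of_evalₐ_eq_zero (hI : I.FG) (n : ℕ) (x : AdicCompletion I S)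
    (hx : evalₐ I n x = 0) : x ∈ (I.map (algebraMap S (AdicCompletion I S))) ^ n := by
  rw [← Ideal.map_pow]
  have h1 : eval I S n x = 0 := by
    rw [← factor_evalₐ_eq_eval I x (by simp), hx, _root_.map_zero]
  have h2 : x ∈ (I ^ n • ⊤ : Submodule S (AdicCompletion I S)) := by
    rw [pow_smul_top_eq_ker_eval hI]
    exact h1
  rwa [Ideal.smul_top_eq_map] at h2

theorem exists_sub_mem_map_pow (hI : I.FG) (n : ℕ) (x : AdicCompletion I S) :
    ∃ s : S, x - algebraMap S (AdicCompletion I S) s ∈ (I.map (algebraMap S (AdicCompletion I S))) ^ n := by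
  obtain ⟨s, hs⟩ := Ideal.Quotient.mk_surjective (evalₐ I n x)
  refine ⟨s, mem_map_pow_of_evalₐ_eq_zero I hI n _ ?_⟩
  rw [map_sub, AlgHom.commutes, ← hs]
  exact sub_self _

/-- Two ring maps from a completion agree if they agree on the ring and kill a power of the ideal. -/
theorem hom_ext_of_kill {C : Type u} [CommRing C] (hI : I.FG) {n : ℕ} (f g : AdicCompletion I S →+* C)
    (h : ∀ s, f (algebraMap S (AdicCompletion I S) s) = g (algebraMap S (AdicCompletion I S) s))
    (hf : ∀ x ∈ (I.map (algebraMap S (AdicCompletion I S))) ^ n, f x = 0)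
    (hg : ∀ x ∈ (I.map (algebraMap S (AdicCompletion I S))) ^ n, g x = 0) : f = g := by
  ext x
  obtain ⟨s, hs⟩ := exists_sub_mem_map_pow I hI n x
  have h1 := (hf _ hs).trans (hg _ hs).symm
  rw [map_sub, map_sub, h] at h1
  exact sub_left_inj.1 h1

/-- A ring map killing a power of the ideal extends to the completion. -/
theorem exists_extension {C : Type u} [CommRing C] (n : ℕ) (f : S →+* C) (hf : ∀ s ∈ I ^ n, f s = 0) :
    ∃ g : AdicCompletion I S →+* C, (∀ s, g (algebraMap S (AdicCompletion I S) s) = f s) ∧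
      ∀ x ∈ (I.map (algebraMap S (AdicCompletion I S))) ^ n, g x = 0 := by
  let g : AdicCompletion I S →+* C := (Ideal.Quotient.lift (I ^ n) f hf).comp (evalₐ I n).toRingHom
  have hg : ∀ s, g (algebraMap S (AdicCompletion I S) s) = f s := fun s => by
    show Ideal.Quotient.lift (I ^ n) f hf (evalₐ I n (algebraMap S (AdicCompletion I S) s)) = f s
    rw [AlgHom.commutes]
    rfl
  refine ⟨g, hg, fun x hx => ?_⟩
  have h1 : (I.map (algebraMap S (AdicCompletion I S))) ^ n ≤ RingHom.ker g := by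
    rw [← Ideal.map_pow, Ideal.map_le_iff_le_comap]
    exact fun s hs => (hg s).trans (hf s hs)
  exact h1 hx

/-- A lift of a map killing the `n`th power kills the `2n`th power. -/
theorem kill_sq {C : Type u} [CommRing C] (J : Ideal C) (hJ : J ^ 2 = ⊥) (f : S →+* C) (n : ℕ)
    (hf : ∀ s ∈ I ^ n, f s ∈ J) : ∀ s ∈ I ^ (n * 2), f s = 0 := by
  intro s hs
  have h1 : (I ^ n).map f ≤ J := Ideal.map_le_iff_le_comap.2 hf
  have h2 : f s ∈ ((I ^ n).map f) ^ 2 := by
    rw [← Ideal.map_pow, ← pow_mul]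
    exact Ideal.mem_map_of_mem f hs
  have h3 := Ideal.pow_right_mono h1 2 h2
  rwa [hJ, Ideal.mem_bot] at h3

variable {R : Type u} [CommRing R] [Algebra R S]

theorem adicFS_completion_iff (hI : I.FG) :
    CAlgX.IsAdicFormallySmooth R S I ↔
      CAlgX.IsAdicFormallySmooth R (AdicCompletion I S) (I.map (algebraMap S (AdicCompletion I S))) := by
  constructor
  · intro h C _ _ J hJ ψ ⟨k, hk⟩
    let ι : S →ₐ[R] AdicCompletion I S := IsScalarTower.toAlgHom R S (AdicCompletion I S)
    obtain ⟨χ₀, hχ₀⟩ := h C J hJ (ψ.comp ι) ⟨k, fun x hx => hk _ (by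
      rw [← Ideal.map_pow]; exact Ideal.mem_map_of_mem _ hx)⟩
    have hkill := kill_sq I J hJ χ₀.toRingHom k fun s hs => by
      rw [← Ideal.Quotient.eq_zero_iff_mem]
      refine (AlgHom.congr_fun hχ₀ s).trans (hk _ ?_)
      rw [← Ideal.map_pow]
      exact Ideal.mem_map_of_mem _ hs
    obtain ⟨g, hg, hgk⟩ := exists_extension I (k * 2) χ₀.toRingHom hkill
    let χ : AdicCompletion I S →ₐ[R] C :=
      { g with
        commutes' := fun r => by
          show g (algebraMap R (AdicCompletion I S) r) = algebraMap R C r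
          rw [IsScalarTower.algebraMap_apply R S (AdicCompletion I S), hg]
          exact χ₀.commutes r }
    refine ⟨χ, AlgHom.coe_ringHom_injective ?_⟩
    exact hom_ext_of_kill I hI (n := k * 2) ((Ideal.Quotient.mk J).comp g) ψ.toRingHom
      (fun s => by
        show Ideal.Quotient.mk J (g (algebraMap S (AdicCompletion I S) s)) = _
        rw [hg]
        exact AlgHom.congr_fun hχ₀ s)
      (fun x hx => by
        show Ideal.Quotient.mk J (g x) = 0
        rw [hgk x hx, _root_.map_zero])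
      fun x hx => hk x (Ideal.pow_le_pow_right (by omega) hx)
  · intro h C _ _ J hJ ψ ⟨k, hk⟩
    obtain ⟨g, hg, hgk⟩ := exists_extension I k ψ.toRingHom hk
    let ψ' : AdicCompletion I S →ₐ[R] C ⧸ J :=
      { g with
        commutes' := fun r => by
          show g (algebraMap R (AdicCompletion I S) r) = algebraMap R (C ⧸ J) r
          rw [IsScalarTower.algebraMap_apply R S (AdicCompletion I S), hg]
          exact ψ.commutes r }
    obtain ⟨χ, hχ⟩ := h C J hJ ψ' ⟨k, hgk⟩
    exact ⟨χ.comp (IsScalarTower.toAlgHom R S (AdicCompletion I S)),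
      AlgHom.ext fun s => (AlgHom.congr_fun hχ _).trans (hg s)⟩

/-- Completing the base does not change formal smoothness of a completed algebra. -/
theorem adicFS_base_completion_iff {T : Type u} [CommRing T] [Algebra R T] (𝔪 : Ideal R) (h𝔪 : 𝔪.FG)
    (𝔫 : Ideal T) [Algebra (AdicCompletion 𝔪 R) T] [IsScalarTower R (AdicCompletion 𝔪 R) T]
    (c : ℕ) (hc : (𝔪 ^ c).map (algebraMap R T) ≤ 𝔫) :
    CAlgX.IsAdicFormallySmooth R T 𝔫 ↔ CAlgX.IsAdicFormallySmooth (AdicCompletion 𝔪 R) T 𝔫 := by
  let M := 𝔪.map (algebraMap R (AdicCompletion 𝔪 R))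
  have hM : ∀ j : ℕ, (M ^ (c * j)).map (algebraMap (AdicCompletion 𝔪 R) T) ≤ 𝔫 ^ j := fun j => by
    rw [← Ideal.map_pow, Ideal.map_map, ← IsScalarTower.algebraMap_eq, pow_mul, Ideal.map_pow]
    exact Ideal.pow_right_mono hc j
  constructor
  · intro h C _ _ J hJ ψ ⟨k, hk⟩
    letI : Algebra R C := ((algebraMap (AdicCompletion 𝔪 R) C).comp (algebraMap R (AdicCompletion 𝔪 R))).toAlgebra
    haveI : IsScalarTower R (AdicCompletion 𝔪 R) C := IsScalarTower.of_algebraMap_eq fun _ => rfl
    obtain ⟨χ₀, hχ₀⟩ := h C J hJ (ψ.restrictScalars R) ⟨k, hk⟩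
    have e : χ₀.toRingHom.comp (algebraMap (AdicCompletion 𝔪 R) T) = algebraMap (AdicCompletion 𝔪 R) C := by
      refine hom_ext_of_kill 𝔪 h𝔪 (n := c * (k * 2)) _ _ (fun r => ?_) (fun x hx => ?_) fun x hx => ?_
      · show χ₀ (algebraMap (AdicCompletion 𝔪 R) T (algebraMap R (AdicCompletion 𝔪 R) r)) = _
        rw [← IsScalarTower.algebraMap_apply, χ₀.commutes]
        rfl
      · refine kill_sq 𝔫 J hJ χ₀.toRingHom k (fun s hs => ?_) _ (hM _ (Ideal.mem_map_of_mem _ hx))
        rw [← Ideal.Quotient.eq_zero_iff_mem]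
        exact (AlgHom.congr_fun hχ₀ s).trans (hk s hs)
      · rw [← mul_assoc] at hx
        refine kill_sq M J hJ (algebraMap (AdicCompletion 𝔪 R) C) (c * k) (fun s hs => ?_) _ hx
        rw [← Ideal.Quotient.eq_zero_iff_mem]
        exact (ψ.commutes s).symm.trans (hk _ (hM k (Ideal.mem_map_of_mem _ hs)))
    exact ⟨{ χ₀.toRingHom with commutes' := fun a => RingHom.congr_fun e a },
      AlgHom.ext fun t => AlgHom.congr_fun hχ₀ t⟩
  · intro h C _ _ J hJ ψ ⟨k, hk⟩
    have hR : ∀ r ∈ 𝔪 ^ (c * k * 2), algebraMap R C r = 0 := kill_sq 𝔪 J hJ _ (c * k) fun r hr => by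
      rw [← Ideal.Quotient.eq_zero_iff_mem]
      refine (ψ.commutes r).symm.trans (hk _ ?_)
      rw [IsScalarTower.algebraMap_apply R (AdicCompletion 𝔪 R) T]
      refine hM k (Ideal.mem_map_of_mem _ ?_)
      rw [← Ideal.map_pow]
      exact Ideal.mem_map_of_mem _ hr
    obtain ⟨g, hg, hgk⟩ := exists_extension 𝔪 (c * k * 2) (algebraMap R C) hR
    letI : Algebra (AdicCompletion 𝔪 R) C := g.toAlgebra
    have e : ψ.toRingHom.comp (algebraMap (AdicCompletion 𝔪 R) T) = (Ideal.Quotient.mk J).comp g := by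
      refine hom_ext_of_kill 𝔪 h𝔪 (n := c * k * 2) _ _ (fun r => ?_) (fun x hx => ?_) fun x hx => ?_
      · show ψ (algebraMap (AdicCompletion 𝔪 R) T (algebraMap R (AdicCompletion 𝔪 R) r)) = _
        rw [← IsScalarTower.algebraMap_apply, ψ.commutes, RingHom.comp_apply, hg]
        rfl
      · refine hk _ (hM k (Ideal.mem_map_of_mem _ (Ideal.pow_le_pow_right (by omega) hx)))
      · rw [RingHom.comp_apply, hgk x hx, _root_.map_zero]
    obtain ⟨χ, hχ⟩ := h C J hJ { ψ.toRingHom with commutes' := fun a => RingHom.congr_fun e a } ⟨k, hk⟩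
    refine ⟨{ χ.toRingHom with commutes' := fun r => ?_ }, AlgHom.ext fun t => AlgHom.congr_fun hχ t⟩
    show χ (algebraMap R T r) = algebraMap R C r
    rw [IsScalarTower.algebraMap_apply R (AdicCompletion 𝔪 R) T, χ.commutes]
    exact hg r

end AdicFSLib
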