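import Groth.Agent.AdicFSLib.Criterion
import Mathlib.RingTheory.Extension.Cotangent.Basic
import Mathlib.RingTheory.Kaehler.Basic
import Mathlib.LinearAlgebra.Dual.Lemmas

/-!
# The first homology of the naive cotangent complex of the residue field
-/

set_option autoImplicit false
set_option linter.style.haveILetI false

universe u

open IsLocalRing TensorProduct

namespace AdicFSLib

/-- The residue field presented as a quotient of the local ring. -/
noncomputable def residueExtension (B : Type u) [CommRing B] [IsLocalRing B] :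
    Algebra.Extension.{u} B (ResidueField B) :=
  Algebra.Extension.ofSurjective (Algebra.ofId B (ResidueField B)) residue_surjective

variable {A B : Type u} [CommRing A] [CommRing B] [IsLocalRing B] [Algebra A B]

theorem injective_h1Cotangent_map (E : Algebra.Extension.{u} A (ResidueField B)) (π : E.Ring →ₐ[A] B)
    (hπ : Function.Surjective π) (hE : ∀ p, algebraMap E.Ring (ResidueField B) p = residue B (π p))
    (hD : DerExt π (maximalIdeal B)) (f : E.Hom (residueExtension B)) (hf : ∀ p, f.toRingHom p = π p) :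
    Function.Injective (Algebra.Extension.H1Cotangent.map f) := by
  rw [injective_iff_map_eq_zero]
  intro x hx
  obtain ⟨⟨y, hy⟩, hyx⟩ := Algebra.Extension.Cotangent.mk_surjective x.1
  have hxk : E.cotangentComplex x.1 = 0 := LinearMap.mem_ker.1 x.2
  have h1 : Algebra.Extension.Cotangent.map f x.1 = 0 := congrArg Subtype.val hx
  rw [← hyx, Algebra.Extension.Cotangent.map_mk, Algebra.Extension.Cotangent.mk_eq_zero_iff] at h1
  change f.toRingHom y ∈ _ at h1
  rw [hf] at h1
  have hker : E.ker = (maximalIdeal B).comap π := by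
    ext p
    show algebraMap E.Ring (ResidueField B) p = 0 ↔ π p ∈ maximalIdeal B
    rw [hE, residue_eq_zero_iff]
  have h2 : π y ∈ ((maximalIdeal B).comap π).map π ^ 2 := by
    rw [Ideal.map_comap_of_surjective π hπ]
    have hm : π y ∈ RingHom.ker (residue B) ^ 2 := h1
    rwa [ker_residue] at hm
  rw [← Ideal.map_pow, Ideal.mem_map_iff_of_surjective π hπ, ← hker] at h2
  obtain ⟨z, hz, hzy⟩ := h2
  have hJker : ∀ j : RingHom.ker π, j.1 ∈ E.ker := fun j => by
    rw [hker, Ideal.mem_comap, RingHom.mem_ker.1 j.2]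
    exact zero_mem _
  let ι : RingHom.ker π →ₗ[E.Ring] E.ker :=
    { toFun := fun j => ⟨j.1, hJker j⟩
      map_add' := fun _ _ => rfl
      map_smul' := fun _ _ => rfl }
  let j₀ : RingHom.ker π := ⟨y - z, by rw [RingHom.mem_ker, map_sub, hzy, sub_self]⟩
  have hj₀ : Algebra.Extension.Cotangent.mk (ι j₀) = x.1 := by
    rw [← hyx, Algebra.Extension.Cotangent.mk_eq_mk_iff_sub_mem]
    show y - z - y ∈ _
    simpa using neg_mem hz
  refine Algebra.Extension.h1Cotangentι_ext _ _ (hj₀.symm.trans ?_)
  refine (Module.forall_dual_apply_eq_zero_iff (ResidueField B) _).1 fun φ => ?_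
  let n := (maximalIdeal B).comap π
  let ev : (E.Ring ⧸ n) →ₗ[E.Ring] ResidueField B := Submodule.liftQ n (Algebra.linearMap E.Ring (ResidueField B))
    fun p hp => by
      show algebraMap E.Ring (ResidueField B) p = 0
      rw [hE, residue_eq_zero_iff]
      exact hp
  have hev : Function.Bijective ev := by
    refine ⟨(injective_iff_map_eq_zero _).2 fun q hq => ?_, fun k => ⟨Submodule.Quotient.mk (E.σ k), E.algebraMap_σ k⟩⟩
    obtain ⟨p, rfl⟩ := Submodule.Quotient.mk_surjective n q
    change algebraMap E.Ring (ResidueField B) p = 0 at hq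
    rw [hE, residue_eq_zero_iff] at hq
    exact (Submodule.Quotient.mk_eq_zero n).2 hq
  let h : RingHom.ker π →ₗ[E.Ring] E.Ring ⧸ n :=
    (LinearEquiv.ofBijective ev hev).symm.toLinearMap ∘ₗ (φ.restrictScalars E.Ring) ∘ₗ
      Algebra.Extension.Cotangent.mk ∘ₗ ι
  obtain ⟨D, hDh⟩ := hD h
  let L : ResidueField B ⊗[E.Ring] Ω[E.Ring⁄A] →ₗ[ResidueField B] ResidueField B :=
    (ev ∘ₗ D.liftKaehlerDifferential).liftBaseChange (ResidueField B)
  have h3 : L (E.cotangentComplex (Algebra.Extension.Cotangent.mk (ι j₀))) = 0 := by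
    rw [hj₀, hxk, map_zero]
  rw [Algebra.Extension.cotangentComplex_mk, LinearMap.liftBaseChange_tmul, one_smul, LinearMap.comp_apply,
    Derivation.liftKaehlerDifferential_comp_D] at h3
  change ev (D j₀.1) = 0 at h3
  rw [hDh] at h3
  exact ((LinearEquiv.ofBijective ev hev).apply_symm_apply _).symm.trans h3

end AdicFSLib
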