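import Groth.Prelude.Def_CAlgX
import Mathlib.RingTheory.MvPolynomial.Basic
import Mathlib.Algebra.MvPolynomial.Derivation
import Mathlib.RingTheory.Filtration
import Mathlib.RingTheory.Noetherian.OfPrime
import Mathlib.RingTheory.Ideal.Quotient.Operations
import Mathlib.LinearAlgebra.Basis.VectorSpace
import Mathlib.RingTheory.LocalRing.Quotient

/-!
# A derivation criterion for adic formal smoothness

For a presentation `π : P → B` of an algebra over `A`, formal smoothness in the adic topology of the maximal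
ideal amounts to extending linear forms `ker π → k_B` to derivations `P → k_B`.
-/

set_option autoImplicit false
set_option linter.style.haveILetI false
set_option maxHeartbeats 600000

universe u

open IsLocalRing

namespace AdicFSLib

variable {A B : Type u} [CommRing A] [CommRing B] [Algebra A B]

/-- Formal smoothness tested on algebras killed by `I`. -/
def WeakFS (A : Type u) [CommRing A] (I : Ideal A) (B : Type u) [CommRing B] [Algebra A B] (𝔫 : Ideal B) : Prop :=
  ∀ (C : Type u) [CommRing C] [Algebra A C] (J : Ideal C), J ^ 2 = ⊥ → I.map (algebraMap A C) = ⊥ →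
    ∀ ψ : B →ₐ[A] C ⧸ J, (∃ k : ℕ, ∀ x ∈ 𝔫 ^ k, ψ x = 0) →
      ∃ χ : B →ₐ[A] C, (Ideal.Quotient.mkₐ A J).comp χ = ψ

theorem weakFS_bot_iff (𝔫 : Ideal B) : WeakFS A ⊥ B 𝔫 ↔ CAlgX.IsAdicFormallySmooth A B 𝔫 :=
  ⟨fun h C _ _ J hJ ψ hψ => h C J hJ (Ideal.map_bot) ψ hψ, fun h C _ _ J hJ _ ψ hψ => h C J hJ ψ hψ⟩

theorem weakFS_of_adicFS {𝔫 : Ideal B} (h : CAlgX.IsAdicFormallySmooth A B 𝔫) (I : Ideal A) : WeakFS A I B 𝔫 :=
  fun C _ _ J hJ _ ψ hψ => h C J hJ ψ hψ

variable {P : Type u} [CommRing P] [Algebra A P]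

/-- Linear forms on the kernel of a presentation extend to derivations. -/
def DerExt (π : P →ₐ[A] B) (𝔫 : Ideal B) : Prop :=
  ∀ h : RingHom.ker π →ₗ[P] P ⧸ 𝔫.comap π,
    ∃ D : Derivation A P (P ⧸ 𝔫.comap π), ∀ j : RingHom.ker π, D j.1 = h j

theorem smul_quotient_eq_zero {n : Ideal P} {x : P} (hx : x ∈ n) (z : P ⧸ n) : x • z = 0 := by
  obtain ⟨z, rfl⟩ := Ideal.Quotient.mk_surjective z
  exact Ideal.Quotient.eq_zero_iff_mem.2 (Ideal.mul_mem_right _ _ hx)

theorem exists_derivation_of_weakFS [IsLocalRing B] [IsNoetherianRing B] (π : P →ₐ[A] B)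
    (hπ : Function.Surjective π) (I : Ideal A) (hI : I.map (algebraMap A B) = ⊥)
    (hFS : WeakFS A I B (maximalIdeal B)) (h : RingHom.ker π →ₗ[P] P ⧸ (maximalIdeal B).comap π)
    (hh : ∀ j : RingHom.ker π, j.1 ∈ I.map (algebraMap A P) → h j = 0) :
    ∃ D : Derivation A P (P ⧸ (maximalIdeal B).comap π), ∀ j : RingHom.ker π, D j.1 = h j := by
  classical
  by_cases h0 : h = 0
  · exact ⟨0, fun j => by simp [h0]⟩
  let n := (maximalIdeal B).comap π
  haveI hn : n.IsMaximal := Ideal.comap_isMaximal_of_surjective π hπ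
  let J := RingHom.ker π
  have hJn : J ≤ n := fun x hx => by
    show π x ∈ maximalIdeal B
    rw [(RingHom.mem_ker).1 hx]
    exact zero_mem _
  -- an element with value one
  obtain ⟨j₀, hj₀⟩ : ∃ j₀ : J, h j₀ = Ideal.Quotient.mk n 1 := by
    obtain ⟨j₁, hj₁⟩ : ∃ j₁, h j₁ ≠ 0 := by
      by_contra hc
      push Not at hc
      exact h0 (LinearMap.ext hc)
    letI := Ideal.Quotient.field n
    obtain ⟨y, hy⟩ := Ideal.Quotient.mk_surjective (h j₁)⁻¹
    refine ⟨y • j₁, ?_⟩
    rw [map_smul, Algebra.smul_def, map_one]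
    show Ideal.Quotient.mk n y * h j₁ = 1
    rw [hy, inv_mul_cancel₀ hj₁]
  let N : Ideal P := (LinearMap.ker h).map J.subtype
  have hN : ∀ j : J, j.1 ∈ N ↔ h j = 0 := fun j => by
    refine ⟨fun hj => ?_, fun hj => ⟨j, hj, rfl⟩⟩
    obtain ⟨j', hj', he⟩ := hj
    rw [← Subtype.ext he]
    exact hj'
  have hNJ : N ≤ J := fun x ⟨j, _, he⟩ => he ▸ j.2
  have hdec : ∀ j : J, ∃ y : P, j.1 - y * j₀.1 ∈ N := fun j => by
    obtain ⟨y, hy⟩ := Ideal.Quotient.mk_surjective (h j)
    refine ⟨y, (hN (j - y • j₀)).2 ?_⟩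
    rw [map_sub, map_smul, hj₀, ← hy]
    show Ideal.Quotient.mk n y - Ideal.Quotient.mk n (y * 1) = 0
    rw [mul_one, sub_self]
  -- the small extension `P ⧸ N` of `B` is a Noetherian local ring
  let q := Ideal.Quotient.mk N
  let πE : P ⧸ N →+* B := Ideal.Quotient.lift N π.toRingHom fun x hx => hNJ hx
  have hπE : Function.Surjective πE := fun b => by
    obtain ⟨x, rfl⟩ := hπ b
    exact ⟨q x, rfl⟩
  let e := q j₀.1
  have hker : ∀ z, πE z = 0 → z ∈ Ideal.span {e} := fun z hz => by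
    obtain ⟨x, rfl⟩ := Ideal.Quotient.mk_surjective z
    obtain ⟨y, hy⟩ := hdec ⟨x, RingHom.mem_ker.2 hz⟩
    exact Ideal.mem_span_singleton'.2 ⟨q y, by rw [← map_mul]; exact (Ideal.Quotient.eq.2 hy).symm⟩
  have hsq : ∀ z, πE z = 0 → z * z = 0 := fun z hz => by
    obtain ⟨x, rfl⟩ := Ideal.Quotient.mk_surjective z
    rw [← map_mul, Ideal.Quotient.eq_zero_iff_mem]
    refine (hN ⟨x * x, J.mul_mem_left _ (RingHom.mem_ker.2 hz)⟩).2 ?_
    rw [show (⟨x * x, _⟩ : J) = x • (⟨x, RingHom.mem_ker.2 hz⟩ : J) from rfl, map_smul]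
    exact smul_quotient_eq_zero (hJn (RingHom.mem_ker.2 hz)) _
  have hprime : ∀ M : Ideal (P ⧸ N), M.IsPrime → ∀ z, πE z = 0 → z ∈ M := fun M hM z hz =>
    (hM.mem_or_mem (by rw [hsq z hz]; exact zero_mem M)).elim id id
  haveI : IsNoetherianRing (P ⧸ N) := by
    refine IsNoetherianRing.of_prime fun M hM => ?_
    obtain ⟨s, hs⟩ := (IsNoetherian.noetherian (M.map πE) : (M.map πE).FG)
    have hlift : ∀ b : s, ∃ z ∈ M, πE z = b.1 := fun b =>
      (Ideal.mem_map_iff_of_surjective πE hπE).1 (hs ▸ Ideal.subset_span b.2)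
    choose g hgM hg using hlift
    refine ⟨insert e (s.attach.image g), le_antisymm ?_ fun z hz => ?_⟩
    · refine Ideal.span_le.2 fun z hz => ?_
      simp only [Finset.coe_insert, Finset.coe_image, Set.mem_insert_iff, Set.mem_image] at hz
      rcases hz with rfl | ⟨b, -, rfl⟩
      · exact hprime M hM e (RingHom.mem_ker.1 j₀.2)
      · exact hgM b
    · let G : Ideal (P ⧸ N) := Ideal.span (insert e (s.attach.image g) : Finset (P ⧸ N))
      have hle : M.map πE ≤ G.map πE := hs ▸ Ideal.span_le.2 fun b hb => by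
        have h1 : πE (g ⟨b, hb⟩) ∈ G.map πE := Ideal.mem_map_of_mem _ (Ideal.subset_span (Finset.mem_coe.2
          (Finset.mem_insert_of_mem (Finset.mem_image_of_mem g (Finset.mem_attach _ _)))))
        rwa [show πE (g ⟨b, hb⟩) = b from hg ⟨b, hb⟩] at h1
      obtain ⟨z', hz', hzz⟩ := (Ideal.mem_map_iff_of_surjective πE hπE).1 (hle (Ideal.mem_map_of_mem πE hz))
      have h1 : z - z' ∈ Ideal.span {e} := hker _ (by rw [map_sub, hzz, sub_self])
      have h2 : Ideal.span {e} ≤ G := Ideal.span_mono (by simp)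
      simpa [G] using add_mem (h2 h1) hz'
  let nE : Ideal (P ⧸ N) := (maximalIdeal B).comap πE
  haveI : nE.IsMaximal := Ideal.comap_isMaximal_of_surjective πE hπE
  haveI : IsLocalRing (P ⧸ N) := IsLocalRing.of_unique_max_ideal ⟨nE, ‹_›, fun M hM => by
    haveI : M.IsMaximal := hM
    refine Ideal.IsMaximal.eq_of_le hM (Ideal.IsMaximal.ne_top ‹nE.IsMaximal›) fun z hz => ?_
    show πE z ∈ maximalIdeal B
    refine (le_maximalIdeal ?_) (Ideal.mem_map_of_mem πE hz)
    intro htop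
    obtain ⟨w, hw, hw1⟩ := (Ideal.mem_map_iff_of_surjective πE hπE).1 (htop ▸ Submodule.mem_top : (1 : B) ∈ M.map πE)
    have h1 : (1 : P ⧸ N) - w ∈ M := hprime M hM.isPrime _ (by rw [map_sub, map_one, hw1, sub_self])
    exact hM.ne_top ((Ideal.eq_top_iff_one _).2 (by simpa using add_mem h1 hw))⟩
  obtain ⟨c, hc⟩ : ∃ c, e ∉ nE ^ c := by
    by_contra hcon
    push Not at hcon
    have he : e ∈ ⨅ c, nE ^ c := Submodule.mem_iInf _ |>.2 hcon
    rw [Ideal.iInf_pow_eq_bot_of_isLocalRing nE (Ideal.IsMaximal.ne_top ‹_›), Ideal.mem_bot,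
      Ideal.Quotient.eq_zero_iff_mem, hN j₀, hj₀, map_one] at he
    exact one_ne_zero he
  let Q : Ideal P := N ⊔ n ^ c
  have hj₀Q : j₀.1 ∉ Q := fun hj => hc <| by
    have h1 : n.map q ≤ nE := Ideal.map_le_iff_le_comap.2 fun x hx => hx
    have h2 := Ideal.mem_map_of_mem q hj
    rw [Ideal.map_sup, Ideal.map_quotient_self, bot_sup_eq, Ideal.map_pow] at h2
    exact Ideal.pow_right_mono h1 c h2
  have hQn : Q ≤ n := sup_le (hNJ.trans hJn) (Ideal.pow_le_self fun h' => hc (by simp [h']))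
  have key : ∀ j : J, j.1 ∈ Q → h j = 0 := fun j hj => by
    obtain ⟨y, hy⟩ := hdec j
    have hyj : y * j₀.1 ∈ Q := by simpa using sub_mem hj (le_sup_left (b := n ^ c) hy)
    have hval : h j = Ideal.Quotient.mk n y := by
      have h1 := (hN (j - y • j₀)).1 hy
      rw [map_sub, map_smul, hj₀, sub_eq_zero] at h1
      rw [h1]
      exact congrArg (Ideal.Quotient.mk n) (mul_one y)
    rw [hval, Ideal.Quotient.eq_zero_iff_mem]
    by_contra hyn
    obtain ⟨y', i, hi, hy'⟩ := hn.exists_inv hyn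
    refine hj₀Q ?_
    rw [← one_mul j₀.1, ← hy', add_mul, mul_assoc]
    refine add_mem (Ideal.mul_mem_left _ _ hyj) (le_sup_left (b := n ^ c) ((hN (i • j₀)).2 ?_))
    rw [map_smul]
    exact smul_quotient_eq_zero hi _
  -- lift the tautological map
  let C := P ⧸ Q
  let φ : P →ₐ[A] C := Ideal.Quotient.mkₐ A Q
  let J' : Ideal C := J.map φ
  have hJ'2 : J' ^ 2 = ⊥ := by
    rw [← Ideal.map_pow, Ideal.map_eq_bot_iff_le_ker, pow_two, Ideal.mul_le]
    intro x hx y hy
    refine Ideal.Quotient.eq_zero_iff_mem.2 (le_sup_left (b := n ^ c) ((hN (x • ⟨y, hy⟩)).2 ?_))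
    rw [map_smul]
    exact smul_quotient_eq_zero (hJn hx) _
  have hIC : I.map (algebraMap A C) = ⊥ := by
    rw [IsScalarTower.algebraMap_eq A P C, ← Ideal.map_map, Ideal.map_eq_bot_iff_le_ker]
    intro x hx
    have hxJ : x ∈ J := by
      rw [RingHom.mem_ker]
      have h1 : π x ∈ I.map (algebraMap A B) := by
        rw [← π.comp_algebraMap, ← Ideal.map_map]
        exact Ideal.mem_map_of_mem _ hx
      rwa [hI, Ideal.mem_bot] at h1
    exact Ideal.Quotient.eq_zero_iff_mem.2 (le_sup_left (b := n ^ c) ((hN ⟨x, hxJ⟩).2 (hh ⟨x, hxJ⟩ hx)))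
  let ψ₀ : (P ⧸ RingHom.ker π) →ₐ[A] C ⧸ J' :=
    Ideal.Quotient.liftₐ (RingHom.ker π) ((Ideal.Quotient.mkₐ A J').comp φ)
      fun x hx => Ideal.Quotient.eq_zero_iff_mem.2 (Ideal.mem_map_of_mem φ hx)
  let ψ : B →ₐ[A] C ⧸ J' := ψ₀.comp (Ideal.quotientKerAlgEquivOfSurjective hπ).symm.toAlgHom
  have hψ : ∀ x, ψ (π x) = Ideal.Quotient.mk J' (φ x) := fun x => by
    have h1 : (Ideal.quotientKerAlgEquivOfSurjective hπ).symm (π x) = Ideal.Quotient.mk _ x :=
      (Ideal.quotientKerAlgEquivOfSurjective hπ).symm_apply_eq.2 rfl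
    exact congrArg ψ₀ h1
  obtain ⟨χ, hχ⟩ := hFS C J' hJ'2 hIC ψ ⟨c, fun b hb => by
    rw [← Ideal.map_comap_of_surjective π hπ (maximalIdeal B), ← Ideal.map_pow,
      Ideal.mem_map_iff_of_surjective π hπ] at hb
    obtain ⟨x, hx, rfl⟩ := hb
    rw [hψ, show φ x = 0 from Ideal.Quotient.eq_zero_iff_mem.2 (le_sup_right (a := N) hx), map_zero]⟩
  have hex : ∀ x, ∃ j : J, φ j.1 = φ x - χ (π x) := fun x => by
    have h1 : φ x - χ (π x) ∈ J' := by
      rw [← Ideal.Quotient.eq_zero_iff_mem, map_sub]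
      have h2 := AlgHom.congr_fun hχ (π x)
      rw [hψ] at h2
      exact sub_eq_zero.2 h2.symm
    obtain ⟨j, hj, hje⟩ := (Ideal.mem_map_iff_of_surjective φ Ideal.Quotient.mk_surjective).1 h1
    exact ⟨⟨j, hj⟩, hje⟩
  choose d hd using hex
  have huniq : ∀ x (j : J), φ j.1 = φ x - χ (π x) → h (d x) = h j := fun x j hj => by
    rw [← sub_eq_zero, ← map_sub]
    refine key _ (Ideal.Quotient.eq.1 ?_)
    exact (hd x).trans hj.symm
  let D : P →ₗ[A] P ⧸ n :=
    { toFun := fun x => h (d x)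
      map_add' := fun x y => by
        rw [← map_add]
        refine huniq _ _ ?_
        show φ ((d x).1 + (d y).1) = _
        simp only [map_add, hd]
        ring
      map_smul' := fun a x => by
        rw [RingHom.id_apply, ← algebraMap_smul P a (h (d x)), ← map_smul]
        refine huniq _ _ ?_
        show φ (algebraMap A P a • (d x).1) = _
        simp only [smul_eq_mul, map_mul, Algebra.smul_def, hd, AlgHom.commutes]
        ring }
  refine ⟨Derivation.mk' D fun x y => ?_, fun j => huniq j.1 j ?_⟩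
  · obtain ⟨y', hy'⟩ : ∃ y' : P, φ y' = χ (π y) := Ideal.Quotient.mk_surjective _
    show h (d (x * y)) = x • h (d y) + y • h (d x)
    have hyy : ∀ z : P ⧸ n, y' • z = y • z := fun z => by
      rw [← sub_eq_zero, ← sub_smul]
      refine smul_quotient_eq_zero ?_ z
      have h1 : φ (y - y' - (d y).1) = 0 := by rw [map_sub, map_sub, hd, hy', sub_self]
      have h2 : y - y' ∈ n := by simpa using add_mem (hQn (Ideal.Quotient.eq_zero_iff_mem.1 h1)) (hJn (d y).2)
      simpa using neg_mem h2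
    rw [← hyy, ← map_smul, ← map_smul, ← map_add]
    refine huniq _ _ ?_
    show φ (x * (d y).1 + y' * (d x).1) = _
    simp only [map_add, map_mul, hd, hy']
    ring
  · rw [RingHom.mem_ker.1 j.2, map_zero, sub_zero]

theorem derExt_of_adicFS [IsLocalRing B] [IsNoetherianRing B] (π : P →ₐ[A] B) (hπ : Function.Surjective π)
    (hFS : CAlgX.IsAdicFormallySmooth A B (maximalIdeal B)) : DerExt π (maximalIdeal B) := fun h =>
  exists_derivation_of_weakFS π hπ ⊥ Ideal.map_bot ((weakFS_bot_iff _).2 hFS) h fun j hj => by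
    have : j = 0 := Subtype.ext (by simpa [Ideal.map_bot] using hj)
    rw [this, map_zero]

end AdicFSLib
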