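import Groth.Agent.AdicFSLib.Criterion
import Groth.Agent.GeomRedFibLib.LocalPropInst
import Groth.Agent.JacFSLib.GeomReg
import Mathlib.RingTheory.Spectrum.Prime.RingHom

/-!
# The closed fibre and adic formal smoothness
-/

set_option autoImplicit false
set_option linter.style.haveILetI false

universe u

open IsLocalRing TensorProduct

namespace AdicFSLib

variable (A B : Type u) [CommRing A] [CommRing B] [IsLocalRing A] [IsLocalRing B] [Algebra A B]
  [IsLocalHom (algebraMap A B)]

/-- The map to the closed fibre. -/
noncomputable def toFibre : B →ₐ[A] (maximalIdeal A).Fiber B := Algebra.TensorProduct.includeRight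

theorem toFibre_surjective : Function.Surjective (toFibre A B) :=
  Algebra.TensorProduct.includeRight_surjective B (Ideal.algebraMap_residueField_surjective (maximalIdeal A))

theorem ker_toFibre : RingHom.ker (toFibre A B) = (maximalIdeal A).map (algebraMap A B) := by
  refine le_antisymm (fun b hb => ?_) (Ideal.map_le_iff_le_comap.2 fun a ha => ?_)
  · let m := maximalIdeal A
    let J := m.map (algebraMap A B)
    let e : (A ⧸ m) ≃+* m.ResidueField :=
      RingEquiv.ofBijective (algebraMap (A ⧸ m) m.ResidueField) m.bijective_algebraMap_quotient_residueField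
    let r : m.ResidueField →+* B ⧸ J :=
      (Ideal.quotientMap J (algebraMap A B) Ideal.le_comap_map).comp e.symm.toRingHom
    let r' : m.ResidueField →ₐ[A] B ⧸ J :=
      { r with
        commutes' := fun a => by
          show r (algebraMap A m.ResidueField a) = algebraMap A (B ⧸ J) a
          rw [IsScalarTower.algebraMap_apply A (A ⧸ m) m.ResidueField]
          show Ideal.quotientMap J (algebraMap A B) Ideal.le_comap_map (e.symm (e (Ideal.Quotient.mk m a))) = _
          rw [e.symm_apply_apply, Ideal.quotientMap_mk]
          rfl }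
    let l : m.Fiber B →ₐ[A] B ⧸ J :=
      Algebra.TensorProduct.lift r' (Ideal.Quotient.mkₐ A J) fun _ _ => Commute.all _ _
    have h : l (toFibre A B b) = Ideal.Quotient.mk J b := by
      show l (1 ⊗ₜ b) = _
      simp [l]
    rw [RingHom.mem_ker.1 hb, map_zero] at h
    exact Ideal.Quotient.eq_zero_iff_mem.1 h.symm
  · show toFibre A B (algebraMap A B a) = 0
    rw [AlgHom.commutes, IsScalarTower.algebraMap_apply A (maximalIdeal A).ResidueField,
      Ideal.algebraMap_residueField_eq_zero.2 ha, map_zero]

theorem nontrivial_fibre : Nontrivial ((maximalIdeal A).Fiber B) := by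
  refine nontrivial_of_ne (toFibre A B 1) 0 fun h => ?_
  have h1 : (1 : B) ∈ (maximalIdeal A).map (algebraMap A B) := ker_toFibre A B ▸ RingHom.mem_ker.2 h
  exact (maximalIdeal.isMaximal B).ne_top
    ((Ideal.eq_top_iff_one _).2 (IsLocalRing.map_maximalIdeal_le (algebraMap A B) h1))

theorem isLocalRing_fibre : IsLocalRing ((maximalIdeal A).Fiber B) :=
  haveI := nontrivial_fibre A B
  IsLocalRing.of_surjective' (toFibre A B).toRingHom (toFibre_surjective A B)

variable {A B}

/-- Formal smoothness over the residue field gives formal smoothness on algebras killed by the maximal ideal. -/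
theorem weakFS_of_residueField {B' : Type u} [CommRing B'] [Algebra A B'] [Algebra (maximalIdeal A).ResidueField B']
    [IsScalarTower A (maximalIdeal A).ResidueField B'] (𝔫 : Ideal B')
    (h : CAlgX.IsAdicFormallySmooth (maximalIdeal A).ResidueField B' 𝔫) :
    WeakFS A (maximalIdeal A) B' 𝔫 := by
  intro C _ _ J hJ hI ψ hψ
  let m := maximalIdeal A
  let e : (A ⧸ m) ≃+* m.ResidueField :=
    RingEquiv.ofBijective (algebraMap (A ⧸ m) m.ResidueField) m.bijective_algebraMap_quotient_residueField
  let r : m.ResidueField →+* C := (Ideal.Quotient.lift m (algebraMap A C)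
    fun a ha => Ideal.mem_bot.1 (hI ▸ Ideal.mem_map_of_mem (algebraMap A C) ha)).comp e.symm.toRingHom
  letI : Algebra m.ResidueField C := r.toAlgebra
  haveI : IsScalarTower A m.ResidueField C := .of_algebraMap_eq fun a => by
    rw [IsScalarTower.algebraMap_apply A (A ⧸ m) m.ResidueField]
    show algebraMap A C a = r (e (Ideal.Quotient.mk m a))
    simp only [r, RingHom.comp_apply, RingEquiv.toRingHom_eq_coe, RingHom.coe_coe, e.symm_apply_apply]
    exact (Ideal.Quotient.lift_mk _ _ _).symm
  obtain ⟨χ, hχ⟩ := h C J hJ
    { ψ with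
      commutes' := fun x => by
        obtain ⟨a, rfl⟩ := Ideal.algebraMap_residueField_surjective m x
        show ψ (algebraMap m.ResidueField B' (algebraMap A m.ResidueField a)) = _
        rw [← IsScalarTower.algebraMap_apply, ψ.commutes]
        exact IsScalarTower.algebraMap_apply A m.ResidueField (C ⧸ J) a } hψ
  exact ⟨χ.restrictScalars A, AlgHom.ext fun x => AlgHom.congr_fun hχ x⟩

/-- The closed fibre of an adically formally smooth algebra is formally smooth over the residue field. -/
theorem adicFS_fibre (h : CAlgX.IsAdicFormallySmooth A B (maximalIdeal B)) :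
    haveI := isLocalRing_fibre A B
    CAlgX.IsAdicFormallySmooth (maximalIdeal A).ResidueField ((maximalIdeal A).Fiber B)
      (maximalIdeal ((maximalIdeal A).Fiber B)) := by
  haveI := isLocalRing_fibre A B
  intro C _ _ J hJ ψ hψ
  obtain ⟨k, hk⟩ := hψ
  let m := maximalIdeal A
  letI : Algebra A C := ((algebraMap m.ResidueField C).comp (algebraMap A m.ResidueField)).toAlgebra
  haveI : IsScalarTower A m.ResidueField C := .of_algebraMap_eq fun _ => rfl
  let g := toFibre A B
  haveI : IsLocalHom g.toRingHom := IsLocalHom.of_surjective _ (toFibre_surjective A B)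
  obtain ⟨χ, hχ⟩ := h C J hJ ((ψ.restrictScalars A).comp g) ⟨k, fun x hx => hk _ (by
    have h1 := Ideal.mem_map_of_mem g.toRingHom hx
    rw [Ideal.map_pow, IsLocalRing.map_maximalIdeal_of_surjective g.toRingHom (toFibre_surjective A B)] at h1
    exact h1)⟩
  have hkill : ∀ b ∈ (maximalIdeal A).map (algebraMap A B), χ b = 0 := fun b hb => by
    have h1 : b ∈ RingHom.ker χ := (Ideal.map_le_iff_le_comap.2 fun a ha => by
      show χ (algebraMap A B a) = 0
      rw [χ.commutes, IsScalarTower.algebraMap_apply A m.ResidueField C,
        Ideal.algebraMap_residueField_eq_zero.2 ha, map_zero]) hb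
    exact h1
  let χ' : m.Fiber B →ₐ[A] C :=
    (Ideal.Quotient.liftₐ (RingHom.ker g) χ fun b hb => hkill b (ker_toFibre A B ▸ hb)).comp
      (Ideal.quotientKerAlgEquivOfSurjective (toFibre_surjective A B)).symm.toAlgHom
  have hχ' : ∀ b, χ' (g b) = χ b := fun b => by
    have h1 : (Ideal.quotientKerAlgEquivOfSurjective (toFibre_surjective A B)).symm (g b) =
        Ideal.Quotient.mk _ b :=
      (Ideal.quotientKerAlgEquivOfSurjective (toFibre_surjective A B)).symm_apply_eq.2 rfl
    simp only [χ', AlgHom.comp_apply]
    exact (congrArg (Ideal.Quotient.liftₐ (RingHom.ker g) χ fun b hb => hkill b (ker_toFibre A B ▸ hb)) h1).trans rfl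
  refine ⟨{ χ' with
    commutes' := fun x => ?_ }, AlgHom.ext fun z => ?_⟩
  · obtain ⟨a, rfl⟩ := Ideal.algebraMap_residueField_surjective m x
    show χ' (algebraMap m.ResidueField (m.Fiber B) (algebraMap A m.ResidueField a)) = _
    rw [← IsScalarTower.algebraMap_apply, χ'.commutes]
    exact IsScalarTower.algebraMap_apply A m.ResidueField C a
  · obtain ⟨b, rfl⟩ := toFibre_surjective A B z
    show Ideal.Quotient.mk J (χ' (g b)) = _
    rw [hχ']
    exact AlgHom.congr_fun hχ b

end AdicFSLib
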