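import Groth.Agent.AdicFSLib.Criterion
import Groth.Agent.CohenLib.SmoothLift
import Mathlib.LinearAlgebra.LinearPMap

/-!
# Adic formal smoothness of flat algebras from a quotient of the base
-/

set_option autoImplicit false
set_option linter.style.haveILetI false
set_option maxHeartbeats 400000

universe u

open IsLocalRing

namespace AdicFSLib

variable {A B : Type u} [CommRing A] [CommRing B] [Algebra A B] {P : Type u} [CommRing P] [Algebra A P]

/-- For a flat algebra it suffices to be formally smooth modulo a proper ideal of the base. -/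
theorem derExt_of_flat [IsLocalRing B] [Module.Flat A B] (π : P →ₐ[A] B) (hπ : Function.Surjective π)
    (I : Ideal A) (hI : I.map (algebraMap A B) ≤ maximalIdeal B) {B' : Type u} [CommRing B'] [Algebra A B']
    [IsLocalRing B'] [IsNoetherianRing B'] (g : B →ₐ[A] B') (hg : Function.Surjective g)
    (hgker : RingHom.ker g = I.map (algebraMap A B)) (hFS : WeakFS A I B' (maximalIdeal B')) :
    DerExt π (maximalIdeal B) := by
  intro h
  classical
  let n := (maximalIdeal B).comap π
  let IP := I.map (algebraMap A P)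
  let g' := g.comp π
  have hmap : IP.map π = I.map (algebraMap A B) := by
    rw [← π.comp_algebraMap, ← Ideal.map_map]
    rfl
  have hIPn : IP ≤ n := Ideal.map_le_iff_le_comap.2 fun a ha => by
    show π (algebraMap A P a) ∈ maximalIdeal B
    rw [π.commutes]
    exact hI (Ideal.mem_map_of_mem _ ha)
  have hkill : ∀ j : RingHom.ker π, j.1 ∈ IP → h j = 0 := fun j hj => by
    have hj' : j.1 ∈ IP * RingHom.ker π := CohenLib.mem_map_mul_of_flat π hπ I hj (RingHom.mem_ker.1 j.2)
    have hle : IP * RingHom.ker π ≤ (LinearMap.ker h).map (RingHom.ker π).subtype :=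
      Ideal.mul_le.2 fun a ha b hb => ⟨a • ⟨b, hb⟩, by
        rw [SetLike.mem_coe, LinearMap.mem_ker, map_smul]
        exact smul_quotient_eq_zero (hIPn ha) _, rfl⟩
    obtain ⟨j', h1, h2⟩ := hle hj'
    rw [← Subtype.ext h2]
    exact h1
  have hn' : (maximalIdeal B').comap g' = n := by
    haveI := IsLocalRing.maximalIdeal.isMaximal B'
    haveI : ((maximalIdeal B').comap g).IsMaximal := Ideal.comap_isMaximal_of_surjective g hg
    show (maximalIdeal B').comap (g.toRingHom.comp π.toRingHom) = _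
    rw [← Ideal.comap_comap, show (maximalIdeal B').comap g.toRingHom = maximalIdeal B from
      IsLocalRing.eq_maximalIdeal ‹_›]
    rfl
  have hker' : RingHom.ker g' = RingHom.ker π ⊔ IP := by
    refine le_antisymm (fun x hx => ?_) (sup_le (fun x hx => ?_) fun x hx => ?_)
    · have h1 : π x ∈ IP.map π := by
        rw [hmap, ← hgker]
        exact hx
      obtain ⟨y, hy, hyx⟩ := (Ideal.mem_map_iff_of_surjective π hπ).1 h1
      have : x = (x - y) + y := by ring
      rw [this]
      exact add_mem (Ideal.mem_sup_left (RingHom.mem_ker.2 (by rw [map_sub, hyx, sub_self]))) (Ideal.mem_sup_right hy)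
    · exact RingHom.mem_ker.2 (by rw [AlgHom.comp_apply, RingHom.mem_ker.1 hx, map_zero])
    · exact (hgker.ge (hmap ▸ Ideal.mem_map_of_mem π hx) : π x ∈ RingHom.ker g)
  let f₁ : P →ₗ.[P] P ⧸ n := ⟨RingHom.ker π, h⟩
  let f₂ : P →ₗ.[P] P ⧸ n := ⟨IP, 0⟩
  have hcomp : ∀ (x : f₁.domain) (y : f₂.domain), (x : P) = y → f₁ x = f₂ y := fun x y hxy =>
    hkill x (hxy ▸ y.2)
  let F := f₁.sup f₂ hcomp
  have hdom : F.domain = RingHom.ker g' := hker'.symm
  let e : (P ⧸ n) ≃ₗ[P] (P ⧸ (maximalIdeal B').comap g') := Submodule.quotEquivOfEq _ _ hn'.symm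
  let h' : RingHom.ker g' →ₗ[P] P ⧸ (maximalIdeal B').comap g' :=
    e.toLinearMap.comp (F.toFun.comp (LinearEquiv.ofEq _ _ hdom.symm).toLinearMap)
  have hI' : I.map (algebraMap A B') = ⊥ := by
    rw [← g.comp_algebraMap, ← Ideal.map_map]
    exact (Ideal.map_eq_bot_iff_le_ker _).2 hgker.ge
  obtain ⟨D, hD⟩ := exists_derivation_of_weakFS g' (hg.comp hπ) I hI' hFS h' fun j hj =>
    (congrArg e ((LinearPMap.right_le_sup f₁ f₂ hcomp).2 (x := ⟨j.1, hj⟩)
      (y := LinearEquiv.ofEq _ _ hdom.symm j) rfl).symm).trans (map_zero e)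
  refine ⟨e.symm.toLinearMap.compDer D, fun j => ?_⟩
  have hj' : j.1 ∈ RingHom.ker g' := hker' ▸ Ideal.mem_sup_left j.2
  show e.symm (D j.1) = h j
  rw [hD ⟨j.1, hj'⟩, LinearEquiv.symm_apply_eq]
  exact congrArg e ((LinearPMap.left_le_sup f₁ f₂ hcomp).2 (x := j)
    (y := LinearEquiv.ofEq _ _ hdom.symm ⟨j.1, hj'⟩) rfl).symm

end AdicFSLib
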