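import Groth.Agent.AdicFSLib.PowerFlat
import Groth.Agent.CohenLib.Structure
import Groth.Agent.NormalLib.CompleteLocal
import Groth.Agent.S0578
import Mathlib.RingTheory.DiscreteValuationRing.Basic
import Mathlib.RingTheory.RingHom.Flat
import Mathlib.RingTheory.PrincipalIdealDomain
import Mathlib.RingTheory.Flat.TorsionFree
import Mathlib.RingTheory.Filtration
import Mathlib.RingTheory.MvPowerSeries.NoZeroDivisors

/-!
# Flat liftings of power series rings over a field
-/

set_option autoImplicit false
set_option linter.style.haveILetI false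

universe u

open IsLocalRing

namespace AdicFSLib

variable {K : Type u} [Field K] {d : ℕ}

theorem mem_of_forall_mem_sup_pow {T : Type u} [CommRing T] [IsLocalRing T] [IsNoetherianRing T] (J : Ideal T)
    (hJ : J ≠ ⊤) (x : T) (hx : ∀ n, x ∈ J ⊔ maximalIdeal T ^ n) : x ∈ J := by
  haveI : Nontrivial (T ⧸ J) := Ideal.Quotient.nontrivial_iff.2 hJ
  haveI : IsLocalRing (T ⧸ J) := IsLocalRing.of_surjective' _ Ideal.Quotient.mk_surjective
  rw [← Ideal.Quotient.eq_zero_iff_mem]
  have h : Ideal.Quotient.mk J x ∈ ⨅ n : ℕ, maximalIdeal (T ⧸ J) ^ n := Submodule.mem_iInf _ |>.2 fun n => by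
    have h1 := Ideal.mem_map_of_mem (Ideal.Quotient.mk J) (hx n)
    rwa [Ideal.map_sup, Ideal.map_quotient_self, bot_sup_eq, Ideal.map_pow,
      IsLocalRing.map_maximalIdeal_of_surjective _ Ideal.Quotient.mk_surjective] at h1
  rwa [Ideal.iInf_pow_eq_bot_of_isLocalRing _ (maximalIdeal.isMaximal _).ne_top, Ideal.mem_bot] at h

/-- Lifting `K[[x]]` to a flat algebra over a field or a Cohen ring. -/
theorem exists_flat_lift_coeff (Λ : Type u) [CommRing Λ] [IsLocalRing Λ] (hΛ : IsField Λ ∨ CAlg.IsCohenRing Λ)
    (θ : Λ →+* MvPowerSeries (Fin d) K) (hθ : ∀ x ∈ maximalIdeal Λ, θ x = 0) :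
    ∃ (T : Type u) (_ : CommRing T) (_ : IsLocalRing T) (v : Λ →+* T) (g : T →+* MvPowerSeries (Fin d) K),
      IsNoetherianRing T ∧ IsAdicComplete (maximalIdeal T) T ∧ v.Flat ∧ Function.Surjective g ∧
        g.comp v = θ ∧ RingHom.ker g = (maximalIdeal Λ).map v := by
  have hN : IsNoetherianRing (MvPowerSeries (Fin d) K) := CohenLib.isNoetherianRing_mvPowerSeries (Λ := K) (n := d)
  rcases hΛ with hF | hC
  · letI := hF.toField
    have hm : maximalIdeal Λ = ⊥ := IsLocalRing.isField_iff_maximalIdeal_eq.1 hF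
    have hc : IsAdicComplete (maximalIdeal (MvPowerSeries (Fin d) K)) (MvPowerSeries (Fin d) K) := by
      rw [CohenLib.maximalIdeal_mvPowerSeries, show maximalIdeal K = ⊥ from
        IsLocalRing.isField_iff_maximalIdeal_eq.1 (Field.toIsField K), Ideal.map_bot, bot_sup_eq]
      exact CohenLib.isAdicComplete_varsIdeal (Λ := K) (n := d)
    refine ⟨_, inferInstance, inferInstance, θ, RingHom.id _, hN, hc, ?_, fun x => ⟨x, rfl⟩,
      RingHom.id_comp θ, ?_⟩
    · letI := θ.toAlgebra
      exact (inferInstance : Module.Flat Λ (MvPowerSeries (Fin d) K))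
    · rw [hm, Ideal.map_bot]
      exact (RingHom.injective_iff_ker_eq_bot (RingHom.id _)).1 fun _ _ h => h
  · obtain ⟨p, hp, hmΛ, -, -, -, -, -, hlift⟩ := CohenLib.cohen_props hC
    obtain ⟨hdom, hdvr, -, -⟩ := id hC
    have hp0 : (p : MvPowerSeries (Fin d) K) = 0 := by
      rw [← map_natCast θ]
      exact hθ _ (hmΛ ▸ Ideal.mem_span_singleton_self _)
    have hpK : (p : K) = 0 := by simpa using congrArg MvPowerSeries.constantCoeff hp0
    haveI : CharP K p := (CharP.charP_iff_prime_eq_zero hp.out).2 hpK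
    obtain ⟨W, _, _, hW, ⟨σ⟩⟩ := Groth.Agent.S0578.result p K
    obtain ⟨q, hq, hmW, hcW, hdW, hcharW, hnW, hcharres, -⟩ := CohenLib.cohen_props hW
    haveI := hdW
    haveI := hnW
    haveI := hcW
    haveI := hcharW
    obtain rfl : q = p :=
      CharP.eq (ResidueField W) hcharres
        ((σ.toRingHom.charP_iff σ.injective p).2 inferInstance)
    let T := MvPowerSeries (Fin d) W
    haveI hNT : IsNoetherianRing T := CohenLib.isNoetherianRing_mvPowerSeries (Λ := W) (n := d)
    have hcT : IsAdicComplete (maximalIdeal T) T := by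
      rw [CohenLib.maximalIdeal_mvPowerSeries]
      exact CohenLib.isAdicComplete_sup_varsIdeal W (maximalIdeal W)
    let r : W →+* K := σ.toRingHom.comp (residue W)
    have hr : Function.Surjective r := σ.surjective.comp residue_surjective
    let g : T →+* MvPowerSeries (Fin d) K := MvPowerSeries.map r
    have hg : Function.Surjective g := fun f => by
      choose c hc using fun m => hr (MvPowerSeries.coeff m f)
      let φ : MvPowerSeries (Fin d) W := c
      exact ⟨φ, MvPowerSeries.ext fun m => (MvPowerSeries.coeff_map (φ := φ) r m).trans (hc m)⟩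
    have hpTm : (q : T) ∈ maximalIdeal T := fun hu => by
      have h := hu.map g
      rw [map_natCast, hp0] at h
      exact not_isUnit_zero h
    have hker : RingHom.ker g = Ideal.span {(q : T)} := by
      refine le_antisymm (fun f hf => ?_) ((Ideal.span_singleton_le_iff_mem _).2 ?_)
      · have hdiv : ∀ m, ∃ c, MvPowerSeries.coeff m f = c * (q : W) := fun m => by
          have h1 : r (MvPowerSeries.coeff m f) = 0 := by
            rw [← MvPowerSeries.coeff_map]
            simp [show MvPowerSeries.map r f = 0 from hf]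
          have h2 : MvPowerSeries.coeff m f ∈ Ideal.span {(q : W)} := by
            rw [← hmW, ← residue_eq_zero_iff]
            exact σ.injective (h1.trans (map_zero σ).symm)
          obtain ⟨c, hc⟩ := Ideal.mem_span_singleton'.1 h2
          exact ⟨c, hc.symm⟩
        choose c hc using hdiv
        let φ : MvPowerSeries (Fin d) W := c
        refine Ideal.mem_span_singleton'.2 ⟨φ, MvPowerSeries.ext fun m => ?_⟩
        have hcast : (q : MvPowerSeries (Fin d) W) = MvPowerSeries.C (q : W) := (map_natCast MvPowerSeries.C q).symm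
        show MvPowerSeries.coeff m (φ * (q : MvPowerSeries (Fin d) W)) = _
        rw [hcast, MvPowerSeries.coeff_mul_C, hc m]
        rfl
      · rw [RingHom.mem_ker, map_natCast, hp0]
    let u : Λ →+* T ⧸ RingHom.ker g := (RingHom.quotientKerEquivOfSurjective hg).symm.toRingHom.comp θ
    haveI := hcT
    obtain ⟨v, hv⟩ := hlift.exists_lift_complete (maximalIdeal T) hpTm (RingHom.ker g)
      (IsLocalRing.le_maximalIdeal (RingHom.ker_ne_top g))
      (fun x hx => mem_of_forall_mem_sup_pow _ (RingHom.ker_ne_top g) x hx) u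
    have hgv : g.comp v = θ := RingHom.ext fun x => by
      have h1 := congrArg (RingHom.quotientKerEquivOfSurjective hg) (RingHom.congr_fun hv x)
      simpa [u] using h1
    refine ⟨T, inferInstance, inferInstance, v, g, hNT, hcT, ?_, hg, hgv, ?_⟩
    · letI := v.toAlgebra
      haveI : IsDomain (MvPowerSeries (Fin d) W) := NoZeroDivisors.to_isDomain _
      haveI : IsDomain T := ‹IsDomain (MvPowerSeries (Fin d) W)›
      have hinj : Function.Injective v := by
        rw [RingHom.injective_iff_ker_eq_bot]
        by_contra hne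
        haveI := (RingHom.ker_isPrime v : (RingHom.ker v).IsPrime)
        have h1 : RingHom.ker v = maximalIdeal Λ :=
          IsLocalRing.eq_maximalIdeal (Ring.DimensionLEOne.maximalOfPrime hne inferInstance)
        have h2 : v (q : Λ) = 0 := RingHom.mem_ker.1 (h1.symm ▸ hmΛ ▸ Ideal.mem_span_singleton_self _)
        rw [map_natCast] at h2
        have h3 := congrArg (MvPowerSeries.constantCoeff) h2
        rw [map_natCast, map_zero] at h3
        exact hp.out.ne_zero (Nat.cast_eq_zero.1 h3)
      haveI : FaithfulSMul Λ T := (faithfulSMul_iff_algebraMap_injective Λ T).2 hinj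
      haveI : Module.IsTorsionFree Λ T := inferInstance
      exact (inferInstance : Module.Flat Λ T)
    · rw [hker, hmΛ, Ideal.map_span, Set.image_singleton, map_natCast]

/-- Lifting `K[[x]]` to a flat algebra over a complete Noetherian local ring. -/
theorem exists_flat_lift {A : Type u} [CommRing A] [IsLocalRing A] [IsNoetherianRing A]
    [IsAdicComplete (maximalIdeal A) A] (θ : A →+* MvPowerSeries (Fin d) K) (hθ : ∀ a ∈ maximalIdeal A, θ a = 0) :
    ∃ (C : Type u) (_ : CommRing C) (_ : IsLocalRing C) (_ : Algebra A C) (g : C →+* MvPowerSeries (Fin d) K),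
      IsNoetherianRing C ∧ IsAdicComplete (maximalIdeal C) C ∧ Module.Flat A C ∧ IsLocalHom (algebraMap A C) ∧
        Function.Surjective g ∧ g.comp (algebraMap A C) = θ ∧
        RingHom.ker g = (maximalIdeal A).map (algebraMap A C) := by
  obtain ⟨Λ, _, _, n, f, hcase, hnΛ, hf⟩ :=
    CohenLib.exists_surjective_psHom A (IsNoetherian.noetherian _)
  let S := MvPowerSeries (Fin n) Λ
  have hfm : ∀ s ∈ maximalIdeal S, f s ∈ maximalIdeal A := fun s hs => by
    rw [← IsLocalRing.map_maximalIdeal_of_surjective f hf]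
    exact Ideal.mem_map_of_mem f hs
  have hCm : ∀ x ∈ maximalIdeal Λ, MvPowerSeries.C x ∈ maximalIdeal S := fun x hx => by
    rw [CohenLib.maximalIdeal_mvPowerSeries]
    exact Submodule.mem_sup_left (Ideal.mem_map_of_mem _ hx)
  obtain ⟨T₀, _, _, v, g₀, hNT₀, hcT₀, hflat, hg₀, hg₀v, hker₀⟩ := exists_flat_lift_coeff Λ
    (hcase.imp (fun h => h.1) fun h => h.1) ((θ.comp f).comp MvPowerSeries.C)
    fun x hx => hθ _ (hfm _ (hCm x hx))
  haveI := hnΛ
  haveI := hNT₀
  haveI := hcT₀
  let T := MvPowerSeries (Fin n) T₀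
  haveI : IsNoetherianRing T := CohenLib.isNoetherianRing_mvPowerSeries (Λ := T₀) (n := n)
  haveI : IsAdicComplete (maximalIdeal T) T := by
    rw [CohenLib.maximalIdeal_mvPowerSeries]
    exact CohenLib.isAdicComplete_sup_varsIdeal T₀ (maximalIdeal T₀)
  let st : S →+* T := MvPowerSeries.map v
  letI : Algebra S T := st.toAlgebra
  haveI : Module.Flat S T := flat_mvPowerSeries_map v hflat n
  let gT : T →+* MvPowerSeries (Fin d) K := g₀.comp MvPowerSeries.constantCoeff
  have hgT : Function.Surjective gT := hg₀.comp (CohenLib.constantCoeff_surjective (Λ := T₀) (n := n))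
  have hgTst : gT.comp st = θ.comp f := RingHom.ext fun s => by
    have h1 : s - MvPowerSeries.C (MvPowerSeries.constantCoeff s) ∈ maximalIdeal S := by
      rw [CohenLib.maximalIdeal_mvPowerSeries]
      refine Submodule.mem_sup_right ?_
      rw [← CohenLib.ker_constantCoeff, RingHom.mem_ker, map_sub, MvPowerSeries.constantCoeff_C, sub_self]
    have h2 := hθ _ (hfm _ h1)
    rw [map_sub, map_sub, sub_eq_zero] at h2
    show g₀ (MvPowerSeries.constantCoeff (MvPowerSeries.map v s)) = θ (f s)
    rw [h2, MvPowerSeries.constantCoeff_map]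
    exact RingHom.congr_fun hg₀v _
  have hkerT : RingHom.ker gT = (maximalIdeal S).map (algebraMap S T) := by
    refine le_antisymm (fun t ht => ?_) (Ideal.map_le_iff_le_comap.2 fun s hs => ?_)
    · have h1 : MvPowerSeries.constantCoeff t ∈ (maximalIdeal Λ).map v := hker₀ ▸ ht
      have h2 := Ideal.mem_map_of_mem (MvPowerSeries.C (σ := Fin n) (R := T₀)) h1
      rw [← sub_add_cancel t (MvPowerSeries.C (MvPowerSeries.constantCoeff t))]
      refine add_mem ?_ ?_
      · have h3 : t - MvPowerSeries.C (MvPowerSeries.constantCoeff t) ∈ CohenLib.varsIdeal T₀ n := by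
          rw [← CohenLib.ker_constantCoeff, RingHom.mem_ker, map_sub, MvPowerSeries.constantCoeff_C, sub_self]
        refine (Ideal.span_le.2 ?_ : CohenLib.varsIdeal T₀ n ≤ _) h3
        rintro _ ⟨i, rfl⟩
        rw [SetLike.mem_coe, ← MvPowerSeries.map_X v i]
        refine Ideal.mem_map_of_mem (algebraMap S T) ?_
        rw [CohenLib.maximalIdeal_mvPowerSeries]
        exact Submodule.mem_sup_right (Ideal.subset_span ⟨i, rfl⟩)
      · rw [Ideal.map_map] at h2
        have h4 : (MvPowerSeries.C (σ := Fin n) (R := T₀)).comp v = st.comp MvPowerSeries.C :=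
          RingHom.ext fun x => (MvPowerSeries.map_C v x).symm
        rw [h4, ← Ideal.map_map] at h2
        exact Ideal.map_mono (Ideal.map_le_iff_le_comap.2 hCm) h2
    · show gT (st s) = 0
      rw [← RingHom.comp_apply, hgTst]
      exact hθ _ (hfm s hs)
  -- base change along the presentation
  let I := RingHom.ker f
  have hIm : I ≤ maximalIdeal S := IsLocalRing.le_maximalIdeal (RingHom.ker_ne_top f)
  let IT := I.map (algebraMap S T)
  have hIT : IT ≤ RingHom.ker gT := hkerT ▸ Ideal.map_mono hIm
  haveI : Nontrivial (T ⧸ IT) := Ideal.Quotient.nontrivial_iff.2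
    (ne_top_of_le_ne_top (RingHom.ker_ne_top gT) hIT)
  haveI : IsLocalRing (T ⧸ IT) := IsLocalRing.of_surjective' _ Ideal.Quotient.mk_surjective
  let e : (S ⧸ I) ≃+* A := RingHom.quotientKerEquivOfSurjective hf
  let ι : A →+* T ⧸ IT := (algebraMap (S ⧸ I) (T ⧸ IT)).comp e.symm.toRingHom
  letI : Algebra A (T ⧸ IT) := ι.toAlgebra
  have hι : ∀ s, ι (f s) = Ideal.Quotient.mk IT (algebraMap S T s) := fun s => by
    show algebraMap (S ⧸ I) (T ⧸ IT) (e.symm (f s)) = _
    rw [show e.symm (f s) = Ideal.Quotient.mk I s from e.symm_apply_eq.2 rfl]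
    rfl
  haveI : Module.Flat (S ⧸ I) (T ⧸ IT) := CatLib.flat_quotient I
  let g : T ⧸ IT →+* MvPowerSeries (Fin d) K := Ideal.Quotient.lift IT gT fun t ht => hIT ht
  have hgι : g.comp ι = θ := RingHom.ext fun a => by
    obtain ⟨s, rfl⟩ := hf a
    rw [RingHom.comp_apply, hι]
    exact RingHom.congr_fun hgTst s
  have hkg : RingHom.ker g = (maximalIdeal A).map ι := by
    have hcomp : ι.comp f = (Ideal.Quotient.mk IT).comp (algebraMap S T) := RingHom.ext hι
    rw [← IsLocalRing.map_maximalIdeal_of_surjective f hf, Ideal.map_map, hcomp, ← Ideal.map_map, ← hkerT]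
    exact Ideal.ker_quotient_lift _ _
  have hlocal : IsLocalHom ι := ⟨fun a ha => by
    by_contra hna
    have h1 := (ha.map g)
    rw [← RingHom.comp_apply, hgι, hθ a hna] at h1
    exact not_isUnit_zero h1⟩
  exact ⟨T ⧸ IT, inferInstance, inferInstance, inferInstance, g, inferInstance,
    NormalLib.isAdicComplete_quotient_local IT,
    RingHom.Flat.comp (RingHom.Flat.of_bijective e.symm.bijective) (RingHom.flat_algebraMap_iff.2 inferInstance),
    hlocal, Ideal.Quotient.lift_surjective_of_surjective IT _ hgT, hgι, hkg⟩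

end AdicFSLib
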