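import Groth.Agent.AdicFSLib.SmallLift
import Mathlib.RingTheory.LocalRing.ResidueField.Basic
import Mathlib.RingTheory.Nilpotent.Lemmas

/-!
# Test algebras for adic formal smoothness
-/

set_option autoImplicit false
set_option linter.style.haveILetI false

universe u

open IsLocalRing

namespace AdicFSLib

variable {R S : Type u} [CommRing R] [CommRing S] [Algebra R S] [IsLocalRing S]

/-- A local map into a quotient of a local ring with nilpotent maximal ideal kills a power of the maximal ideal. -/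
theorem exists_pow_kill {A : Type u} [CommRing A] [IsLocalRing A] [Algebra R A] (J : Ideal A)
    [IsLocalRing (A ⧸ J)] (h : ∃ n : ℕ, maximalIdeal A ^ n = ⊥) (ψ : S →ₐ[R] A ⧸ J) [IsLocalHom ψ.toRingHom] :
    ∃ k : ℕ, ∀ x ∈ maximalIdeal S ^ k, ψ x = 0 := by
  obtain ⟨n, hn⟩ := h
  have h1 : (maximalIdeal S).map ψ.toRingHom ≤ (maximalIdeal A).map (Ideal.Quotient.mk J) := by
    refine Ideal.map_le_iff_le_comap.2 fun x hx => ?_
    obtain ⟨a, ha⟩ := Ideal.Quotient.mk_surjective (ψ x)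
    show ψ x ∈ (maximalIdeal A).map (Ideal.Quotient.mk J)
    rw [← ha]
    refine Ideal.mem_map_of_mem _ ((mem_maximalIdeal _).2 fun hu => ?_)
    have h2 : IsUnit (ψ.toRingHom x) := by
      show IsUnit (ψ x)
      rw [← ha]
      exact hu.map _
    exact (mem_maximalIdeal _).1 hx (isUnit_of_map_unit ψ.toRingHom x h2)
  refine ⟨n, fun x hx => ?_⟩
  have h3 : ψ.toRingHom x ∈ ((maximalIdeal A).map (Ideal.Quotient.mk J)) ^ n :=
    Ideal.pow_right_mono h1 n (by rw [← Ideal.map_pow]; exact Ideal.mem_map_of_mem _ hx)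
  rw [← Ideal.map_pow, hn, Ideal.map_bot, Ideal.mem_bot] at h3
  exact h3

theorem bijective_residueFieldMap_of_surjective {T : Type u} [CommRing T] [IsLocalRing T] (f : S →+* T)
    [IsLocalHom f] (hf : Function.Surjective f) : Function.Bijective (ResidueField.map f) :=
  ⟨(ResidueField.map f).injective, fun z => by
    obtain ⟨t, rfl⟩ := residue_surjective z
    obtain ⟨s, rfl⟩ := hf t
    exact ⟨residue S s, rfl⟩⟩

omit [IsLocalRing S] in
/-- A test algebra with a local map from `S` to its quotient has local structure map. -/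
theorem isLocalHom_of_lift [IsLocalRing R] [IsLocalHom (algebraMap R S)] {A : Type u} [CommRing A]
    [Algebra R A] (J : Ideal A) (ψ : S →ₐ[R] A ⧸ J) [IsLocalHom ψ.toRingHom] :
    IsLocalHom (algebraMap R A) := ⟨fun a ha => by
  have h1 : IsUnit (ψ.toRingHom (algebraMap R S a)) := by
    show IsUnit (ψ (algebraMap R S a))
    rw [ψ.commutes]
    exact ha.map (Ideal.Quotient.mk J)
  exact isUnit_of_map_unit (algebraMap R S) a (isUnit_of_map_unit ψ.toRingHom _ h1)⟩

theorem isLocalHom_of_surjective' {T : Type u} [CommRing T] [IsLocalRing T] [Algebra R T] (ψ : S →ₐ[R] T)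
    (hψ : Function.Surjective ψ) : IsLocalHom ψ.toRingHom :=
  IsLocalHom.of_surjective ψ.toRingHom hψ

/-- Lifting for local test algebras implies adic formal smoothness. -/
theorem adicFS_of_localLift [IsLocalRing R] [IsLocalHom (algebraMap R S)]
    (H : ∀ (A : Type u) [CommRing A] [IsLocalRing A] [Algebra R A] [IsLocalHom (algebraMap R A)]
        (J : Ideal A), J ^ 2 = ⊥ → (∃ n : ℕ, maximalIdeal A ^ n = ⊥) →
        ∀ [IsLocalRing (A ⧸ J)] (ψ : S →ₐ[R] A ⧸ J) [IsLocalHom ψ.toRingHom],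
          Function.Bijective (ResidueField.map ψ.toRingHom) →
          ∃ χ : S →ₐ[R] A, (Ideal.Quotient.mkₐ R J).comp χ = ψ) :
    CAlgX.IsAdicFormallySmooth R S (maximalIdeal S) := by
  intro A _ _ J hJ ψ ⟨k₀, hk₀⟩
  let I := maximalIdeal S ^ (k₀ + 1)
  have hI : ∀ x ∈ I, ψ x = 0 := fun x hx => hk₀ x (Ideal.pow_le_pow_right (Nat.le_succ _) hx)
  let ψb : (S ⧸ I) →ₐ[R] A ⧸ J := Ideal.Quotient.liftₐ I ψ hI
  let A₁ := AlgHom.equalizer (ψb.comp (AlgHom.fst R (S ⧸ I) A)) ((Ideal.Quotient.mkₐ R J).comp (AlgHom.snd R (S ⧸ I) A))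
  let p₁ : A₁ →ₐ[R] S ⧸ I := (AlgHom.fst R (S ⧸ I) A).comp A₁.val
  let p₂ : A₁ →ₐ[R] A := (AlgHom.snd R (S ⧸ I) A).comp A₁.val
  have hmem : ∀ z : A₁, ψb (p₁ z) = Ideal.Quotient.mk J (p₂ z) := fun z => z.2
  have hp₁ : Function.Surjective p₁ := fun s => by
    obtain ⟨a, ha⟩ := Ideal.Quotient.mk_surjective (ψb s)
    exact ⟨⟨(s, a), ha.symm⟩, rfl⟩
  let J₁ : Ideal A₁ := RingHom.ker p₁
  have hJ₁ : J₁ ^ 2 = ⊥ := by
    rw [pow_two, eq_bot_iff, Ideal.mul_le]
    intro x hx y hy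
    rw [Ideal.mem_bot]
    have hx' : p₂ x ∈ J := by
      rw [← Ideal.Quotient.eq_zero_iff_mem, ← hmem, RingHom.mem_ker.1 hx, map_zero]
    have hy' : p₂ y ∈ J := by
      rw [← Ideal.Quotient.eq_zero_iff_mem, ← hmem, RingHom.mem_ker.1 hy, map_zero]
    refine Subtype.ext (Prod.ext ?_ ?_)
    · show p₁ (x * y) = 0
      rw [map_mul, RingHom.mem_ker.1 hx, zero_mul]
    · show p₂ (x * y) = 0
      rw [map_mul]
      have h1 := Ideal.mul_mem_mul hx' hy'
      rwa [← pow_two, hJ, Ideal.mem_bot] at h1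
  haveI : Nontrivial (S ⧸ I) := Ideal.Quotient.nontrivial_iff.2
    (ne_top_of_le_ne_top (maximalIdeal.isMaximal S).ne_top (Ideal.pow_le_self k₀.succ_ne_zero))
  haveI : Nontrivial A₁ := RingHom.domain_nontrivial p₁.toRingHom
  haveI : IsLocalRing (S ⧸ I) := IsLocalRing.of_surjective' (Ideal.Quotient.mk I) Ideal.Quotient.mk_surjective
  have hnilJ : IsNilpotent J₁ := ⟨2, hJ₁⟩
  let e : (A₁ ⧸ J₁) ≃ₐ[R] S ⧸ I := Ideal.quotientKerAlgEquivOfSurjective hp₁
  have hunit : ∀ z : A₁, IsUnit (p₁ z) → IsUnit z := fun z hz => by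
    have h1 : IsUnit (Ideal.Quotient.mk J₁ z) := by
      have h2 := hz.map e.symm
      rwa [show e.symm (p₁ z) = Ideal.Quotient.mk J₁ z from e.symm_apply_eq.2 rfl] at h2
    exact IsNilpotent.isUnit_quotient_mk_iff hnilJ |>.1 h1
  haveI : IsLocalRing A₁ := IsLocalRing.of_nonunits_add fun a b ha hb hab => by
    rcases IsLocalRing.isUnit_or_isUnit_of_isUnit_add (show IsUnit (p₁ a + p₁ b) by rw [← map_add]; exact hab.map p₁)
      with h | h
    · exact ha (hunit a h)
    · exact hb (hunit b h)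
  have hpow : maximalIdeal A₁ ^ ((k₀ + 1) * 2) = ⊥ := by
    have h1 : maximalIdeal A₁ ^ (k₀ + 1) ≤ J₁ := by
      intro z hz
      have hle : (maximalIdeal A₁).map p₁.toRingHom ≤ (maximalIdeal S).map (Ideal.Quotient.mk I) := by
        refine Ideal.map_le_iff_le_comap.2 fun w hw => ?_
        obtain ⟨s, hs⟩ := Ideal.Quotient.mk_surjective (p₁ w)
        show p₁ w ∈ (maximalIdeal S).map (Ideal.Quotient.mk I)
        rw [← hs]
        refine Ideal.mem_map_of_mem _ ((mem_maximalIdeal _).2 fun hu => ?_)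
        exact (mem_maximalIdeal _).1 hw (hunit w (hs ▸ hu.map _))
      have h2 : p₁.toRingHom z ∈ ((maximalIdeal S).map (Ideal.Quotient.mk I)) ^ (k₀ + 1) :=
        Ideal.pow_right_mono hle _ (by rw [← Ideal.map_pow]; exact Ideal.mem_map_of_mem _ hz)
      rw [← Ideal.map_pow, Ideal.map_quotient_self, Ideal.mem_bot] at h2
      exact RingHom.mem_ker.2 h2
    rw [eq_bot_iff, pow_mul, ← hJ₁]
    exact Ideal.pow_right_mono h1 2
  let ψ₁ : S →ₐ[R] A₁ ⧸ J₁ := e.symm.toAlgHom.comp (Ideal.Quotient.mkₐ R I)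
  haveI : Nontrivial (A₁ ⧸ J₁) := e.toEquiv.nontrivial
  haveI : IsLocalRing (A₁ ⧸ J₁) := IsLocalRing.of_surjective' e.symm.toAlgHom.toRingHom e.symm.surjective
  have hψ₁ : Function.Surjective ψ₁ := e.symm.surjective.comp Ideal.Quotient.mk_surjective
  haveI : IsLocalHom ψ₁.toRingHom := ⟨fun a ha => by
    by_contra hn
    have hI' : Ideal.Quotient.mk I a ∈ maximalIdeal (S ⧸ I) := by
      refine (mem_maximalIdeal _).2 fun hu => hn ?_
      haveI : IsLocalHom (Ideal.Quotient.mk I) := IsLocalHom.of_surjective _ Ideal.Quotient.mk_surjective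
      exact isUnit_of_map_unit (Ideal.Quotient.mk I) a hu
    have h3 : IsUnit (e (ψ₁ a)) := IsUnit.map e ha
    rw [show e (ψ₁ a) = Ideal.Quotient.mk I a from e.apply_symm_apply _] at h3
    exact (mem_maximalIdeal _).1 hI' h3⟩
  haveI : IsLocalHom (algebraMap R A₁) := isLocalHom_of_lift J₁ ψ₁
  obtain ⟨χ₁, hχ₁⟩ := H A₁ J₁ hJ₁ ⟨_, hpow⟩ ψ₁ (bijective_residueFieldMap_of_surjective _ hψ₁)
  refine ⟨p₂.comp χ₁, AlgHom.ext fun s => ?_⟩
  show Ideal.Quotient.mk J (p₂ (χ₁ s)) = ψ s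
  rw [← hmem, show ψ s = ψb (Ideal.Quotient.mk I s) from rfl]
  refine congrArg ψb ?_
  have h1 := congrArg e (AlgHom.congr_fun hχ₁ s)
  simp only [ψ₁, AlgHom.comp_apply, AlgEquiv.coe_toAlgHom, AlgEquiv.apply_symm_apply,
    Ideal.Quotient.mkₐ_eq_mk] at h1
  exact h1

/-- Lifting along small extensions implies the lifting property `SmallLift`. -/
theorem smallLift_of_localLift [IsLocalRing R] [IsLocalHom (algebraMap R S)]
    (H : ∀ (A : Type u) [CommRing A] [IsLocalRing A] [IsArtinianRing A] [Algebra R A] [IsLocalHom (algebraMap R A)]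
        (J : Ideal A), J ^ 2 = ⊥ → Module.length A J = 1 →
        ∀ [IsLocalRing (A ⧸ J)] (ψ : S →ₐ[R] A ⧸ J) [IsLocalHom ψ.toRingHom],
          Function.Bijective (ResidueField.map ψ.toRingHom) →
          ∃ χ : S →ₐ[R] A, (Ideal.Quotient.mkₐ R J).comp χ = ψ) :
    SmallLift R S := by
  intro C _ _ _ _ J hJ hlen ψ _ hψ
  haveI : Nontrivial (C ⧸ J) := Ideal.Quotient.nontrivial_iff.2 fun h => by
    subst h
    rw [pow_two, Ideal.top_mul] at hJ
    exact bot_ne_top hJ.symm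
  haveI : IsLocalRing (C ⧸ J) := IsLocalRing.of_surjective' (Ideal.Quotient.mk J) Ideal.Quotient.mk_surjective
  haveI : IsLocalHom ψ.toRingHom := isLocalHom_of_surjective' ψ hψ
  haveI : IsLocalHom (algebraMap R C) := isLocalHom_of_lift J ψ
  exact H C J hJ hlen ψ (bijective_residueFieldMap_of_surjective _ hψ)

end AdicFSLib
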