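import Groth.Agent.AdicFSLib.Completion
import Groth.Agent.GeomRedFibLib.GRing

/-!
# Flat liftings modulo an ideal of the base
-/

set_option autoImplicit false
set_option linter.style.haveILetI false
set_option maxHeartbeats 800000

universe u

open IsLocalRing TensorProduct

namespace AdicFSLib

/-- For a local homomorphism, the topology of the base is immaterial. -/
theorem formallySmoothAdic_iff {A B : Type u} [CommRing A] [IsLocalRing A] [CommRing B] [IsLocalRing B] [Algebra A B]
    [IsLocalHom (algebraMap A B)] :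
    EGA41.IsFormallySmoothAdic A (maximalIdeal A) B (maximalIdeal B) ↔
      CAlgX.IsAdicFormallySmooth A B (maximalIdeal B) := by
  refine ⟨fun h C _ _ J hJ ψ hψ => ?_, fun h C _ _ J hJ _ u hu =>
    (CohenLib.isFormallySmoothAdic_bot_iff _).1 h C J hJ ⟨1, by simp⟩ u hu⟩
  obtain ⟨k, hk⟩ := hψ
  refine h C J ⟨2, hJ⟩ ⟨k * 2, ?_⟩ ψ ⟨k, hk⟩
  rw [pow_mul, Ideal.map_pow, ← le_bot_iff]
  refine le_trans (Ideal.pow_right_mono (Ideal.map_le_iff_le_comap.2 fun a ha => ?_) 2) hJ.le
  show algebraMap A C a ∈ J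
  rw [← Ideal.Quotient.eq_zero_iff_mem]
  refine (ψ.commutes a).symm.trans (hk _ ?_)
  have h1 := Ideal.mem_map_of_mem (algebraMap A B) ha
  rw [Ideal.map_pow] at h1
  exact Ideal.pow_right_mono (IsLocalRing.map_maximalIdeal_le _) k h1

/-- A map to a flat algebra inducing an isomorphism modulo a proper ideal of the base is an isomorphism. -/
theorem bijective_of_mod_bijective {A B C D : Type u} [CommRing A] [IsLocalRing A] [CommRing B] [IsLocalRing B]
    [IsNoetherianRing B] [IsAdicComplete (maximalIdeal B) B] [Algebra A B] [IsLocalHom (algebraMap A B)]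
    [CommRing C] [IsLocalRing C] [IsNoetherianRing C] [IsAdicComplete (maximalIdeal C) C] [Algebra A C]
    [Module.Flat A C] [CommRing D] [IsLocalRing D] [Algebra A D] (J : Ideal A) (hJ : J ≤ maximalIdeal A)
    (gB : B →ₐ[A] D) (hgB : Function.Surjective gB) (hkB : RingHom.ker gB = J.map (algebraMap A B))
    (gC : C →ₐ[A] D) (hgC : Function.Surjective gC) (hkC : RingHom.ker gC = J.map (algebraMap A C))
    (v : B →ₐ[A] C) (hv : (maximalIdeal B).map v.toRingHom ≤ maximalIdeal C) (hgv : ∀ x, gC (v x) = gB x) :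
    Function.Bijective v := by
  have hmaxC : (maximalIdeal C).map gC.toRingHom = maximalIdeal D :=
    IsLocalRing.map_maximalIdeal_of_surjective _ hgC
  have hmaxB : (maximalIdeal B).map gB.toRingHom = maximalIdeal D :=
    IsLocalRing.map_maximalIdeal_of_surjective _ hgB
  have hJB : J.map (algebraMap A B) ≤ maximalIdeal B := (Ideal.map_mono hJ).trans (IsLocalRing.map_maximalIdeal_le _)
  have hmap : J.map (algebraMap A C) ≤ (maximalIdeal B).map v.toRingHom := by
    rw [← v.comp_algebraMap, ← Ideal.map_map]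
    exact Ideal.map_mono hJB
  have hres : ∀ r, ∃ q, r - v q ∈ J.map (algebraMap A C) := fun r => by
    obtain ⟨q, hq⟩ := hgB (gC r)
    exact ⟨q, hkC ▸ RingHom.mem_ker.2 (by rw [map_sub, hgv, hq, sub_self])⟩
  have hm : (maximalIdeal B).map v.toRingHom = maximalIdeal C := by
    refine le_antisymm hv fun r hr => ?_
    have h1 : gC r ∈ (maximalIdeal B).map gB.toRingHom := hmaxB ▸ hmaxC ▸ Ideal.mem_map_of_mem gC.toRingHom hr
    obtain ⟨q, hq, hqr⟩ := (Ideal.mem_map_iff_of_surjective gB.toRingHom hgB).1 h1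
    have h2 : r - v q ∈ J.map (algebraMap A C) :=
      hkC ▸ RingHom.mem_ker.2 (by rw [map_sub, hgv]; exact sub_eq_zero.2 hqr.symm)
    simpa using add_mem (hmap h2) (Ideal.mem_map_of_mem v.toRingHom hq)
  have hsurj : Function.Surjective v := CohenLib.surjective_of_complete (maximalIdeal C) (maximalIdeal B) v.toRingHom hm
    fun r => (hres r).imp fun q hq => hv (hmap hq)
  refine ⟨?_, hsurj⟩
  rw [RingHom.injective_iff_ker_eq_bot v]
  refine Submodule.eq_bot_of_le_smul_of_le_jacobson_bot (maximalIdeal B) _ (IsNoetherian.noetherian _)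
    (fun x hx => ?_) (maximalIdeal_le_jacobson _)
  have hxm : x ∈ J.map (algebraMap A B) :=
    hkB ▸ RingHom.mem_ker.2 (by rw [← hgv, RingHom.mem_ker.1 hx, map_zero])
  rw [smul_eq_mul]
  exact Ideal.mul_mono_left hJB (CohenLib.mem_map_mul_of_flat v hsurj J hxm (RingHom.mem_ker.1 hx))

/-- The natural surjection onto a quotient base change. -/
theorem exists_toQuotientBaseChange {A B : Type u} [CommRing A] [CommRing B] [Algebra A B] (J : Ideal A) :
    ∃ g : B →ₐ[A] (A ⧸ J) ⊗[A] B, Function.Surjective g ∧ RingHom.ker g = J.map (algebraMap A B) ∧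
      ∀ b, g b = 1 ⊗ₜ b := by
  refine ⟨Algebra.TensorProduct.includeRight,
    Algebra.TensorProduct.includeRight_surjective B Ideal.Quotient.mk_surjective,
    le_antisymm (fun b hb => ?_) (Ideal.map_le_iff_le_comap.2 fun a ha => ?_), fun _ => rfl⟩
  · refine Ideal.Quotient.eq_zero_iff_mem.1
      ((Algebra.TensorProduct.quotIdealMapEquivQuotTensor B J).injective (a₁ := Ideal.Quotient.mk _ b) (a₂ := 0) ?_)
    rw [Algebra.TensorProduct.quotIdealMapEquivQuotTensor_mk, map_zero]
    exact hb
  · show (1 : A ⧸ J) ⊗ₜ[A] algebraMap A B a = 0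
    rw [Algebra.algebraMap_eq_smul_one, TensorProduct.tmul_smul, TensorProduct.smul_tmul',
      ← Algebra.algebraMap_eq_smul_one, Ideal.Quotient.algebraMap_eq, Ideal.Quotient.eq_zero_iff_mem.2 ha,
      TensorProduct.zero_tmul]

end AdicFSLib
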