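import Groth.Agent.AdicFSLib.Criterion
import Mathlib.Algebra.MvPolynomial.Derivation
import Mathlib.LinearAlgebra.Basis.VectorSpace
import Mathlib.RingTheory.Derivation.Basic
import Mathlib.Algebra.Module.Torsion.Basic
import Mathlib.LinearAlgebra.Dual.Lemmas

/-!
# From extension of linear forms to adic formal smoothness
-/

set_option autoImplicit false
set_option linter.style.haveILetI false

universe u

open IsLocalRing MvPolynomial

namespace AdicFSLib

variable {A B : Type u} [CommRing A] [CommRing B] [Algebra A B] {ι : Type u}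

/-- The extension property for modules killed by the kernel and a power of the maximal ideal. -/
theorem exists_derivation_of_derExt [IsLocalRing B] (π : MvPolynomial ι A →ₐ[A] B) (hπ : Function.Surjective π)
    (hD : DerExt π (maximalIdeal B)) : ∀ (k : ℕ) (M : Type u) [AddCommGroup M] [Module (MvPolynomial ι A) M]
      [Module A M] [IsScalarTower A (MvPolynomial ι A) M],
      (∀ x ∈ RingHom.ker π, ∀ μ : M, x • μ = 0) → (∀ x ∈ ((maximalIdeal B).comap π) ^ k, ∀ μ : M, x • μ = 0) →
      ∀ h : RingHom.ker π →ₗ[MvPolynomial ι A] M,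
        ∃ D : Derivation A (MvPolynomial ι A) M, ∀ j : RingHom.ker π, D j.1 = h j := by
  classical
  let n := (maximalIdeal B).comap π
  haveI : n.IsMaximal := Ideal.comap_isMaximal_of_surjective π hπ
  have hJn : ∀ x ∈ RingHom.ker π, x ∈ n := fun x hx => by
    show π x ∈ maximalIdeal B
    rw [RingHom.mem_ker.1 hx]
    exact zero_mem _
  -- restriction of a derivation to the kernel is linear when the kernel acts trivially
  have hlin : ∀ {M : Type u} [AddCommGroup M] [Module (MvPolynomial ι A) M] [Module A M]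
      [IsScalarTower A (MvPolynomial ι A) M], (∀ x ∈ RingHom.ker π, ∀ μ : M, x • μ = 0) →
      ∀ D : Derivation A (MvPolynomial ι A) M, ∃ l : RingHom.ker π →ₗ[MvPolynomial ι A] M, ∀ j, l j = D j.1 :=
    fun hJ D => ⟨
      { toFun := fun j => D j.1
        map_add' := fun j j' => map_add D j.1 j'.1
        map_smul' := fun x j => by
          rw [RingHom.id_apply, show (x • j).1 = x * j.1 from rfl, Derivation.leibniz, hJ j.1 j.2, add_zero] },
      fun _ => rfl⟩
  -- the case of a module killed by the maximal ideal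
  have base : ∀ (M : Type u) [AddCommGroup M] [Module (MvPolynomial ι A) M] [Module A M]
      [IsScalarTower A (MvPolynomial ι A) M], (∀ x ∈ n, ∀ μ : M, x • μ = 0) →
      ∀ h : RingHom.ker π →ₗ[MvPolynomial ι A] M,
        ∃ D : Derivation A (MvPolynomial ι A) M, ∀ j : RingHom.ker π, D j.1 = h j := by
    intro M _ _ _ _ hn h
    let K := MvPolynomial ι A ⧸ n
    letI : Field K := Ideal.Quotient.field n
    let V := ι →₀ K
    let d : Derivation A (MvPolynomial ι A) V := mkDerivation A fun b => Finsupp.single b 1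
    obtain ⟨dJ, hdJ⟩ := hlin (M := V)
      (fun x hx v => Finsupp.ext fun b => by rw [Finsupp.smul_apply]; exact smul_quotient_eq_zero (hJn x hx) (v b)) d
    letI : Module K M := Module.IsTorsionBySet.module (I := n) fun μ x => hn x.1 x.2 μ
    haveI : IsScalarTower (MvPolynomial ι A) K M := ⟨fun x y μ => by
      obtain ⟨y, rfl⟩ := Ideal.Quotient.mk_surjective y
      show Ideal.Quotient.mk n (x * y) • μ = x • (Ideal.Quotient.mk n y • μ)
      rw [Module.IsTorsionBySet.mk_smul, Module.IsTorsionBySet.mk_smul, mul_smul]⟩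
    -- forms killing `ker dJ` factor through `dJ`
    have hker : LinearMap.ker dJ ≤ LinearMap.ker h := by
      intro j hj
      rw [LinearMap.mem_ker] at hj ⊢
      by_contra hne
      obtain ⟨f, hf⟩ := not_forall.1 fun hall => hne ((Module.forall_dual_apply_eq_zero_iff K (h j)).1 hall)
      obtain ⟨D, hDh⟩ := hD ((f.restrictScalars (MvPolynomial ι A)).comp h)
      have hfac : D = ((Finsupp.linearCombination K fun b => D (X b)).restrictScalars (MvPolynomial ι A)).compDer d := by
        refine derivation_ext fun b => ?_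
        simp [d, LinearMap.compDer]
      refine hf ?_
      show (f.restrictScalars (MvPolynomial ι A)).comp h j = 0
      rw [← hDh j, hfac]
      show (Finsupp.linearCombination K fun b => D (X b)) (d j.1) = 0
      rw [← hdJ, hj, map_zero]
    let W : Submodule K V :=
      { carrier := LinearMap.range dJ
        add_mem' := fun ha hb => add_mem ha hb
        zero_mem' := zero_mem _
        smul_mem' := fun c v hv => by
          obtain ⟨c, rfl⟩ := Ideal.Quotient.mk_surjective c
          exact (algebraMap_smul K c v).symm ▸ Submodule.smul_mem _ c hv }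
    choose j hj using fun w : W => w.2
    have hwd : ∀ (w : W) (i : RingHom.ker π), dJ i = w.1 → h i = h (j w) := fun w i hi => by
      rw [← sub_eq_zero, ← map_sub]
      exact hker (by rw [LinearMap.mem_ker, map_sub, hi, hj, sub_self])
    let g : W →ₗ[K] M :=
      { toFun := fun w => h (j w)
        map_add' := fun w w' => by
          rw [← map_add]
          exact (hwd _ _ (by rw [map_add, hj, hj]; rfl)).symm
        map_smul' := fun c w => by
          obtain ⟨c, rfl⟩ := Ideal.Quotient.mk_surjective c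
          rw [RingHom.id_apply, Module.IsTorsionBySet.mk_smul, ← map_smul]
          refine (hwd _ _ ?_).symm
          rw [map_smul, hj]
          exact (algebraMap_smul K c w.1).symm }
    obtain ⟨G, hG⟩ := LinearMap.exists_extend g
    refine ⟨(G.restrictScalars (MvPolynomial ι A)).compDer d, fun i => ?_⟩
    show G (d i.1) = h i
    rw [← hdJ]
    exact (LinearMap.congr_fun hG ⟨dJ i, ⟨i, rfl⟩⟩).trans (hwd ⟨dJ i, ⟨i, rfl⟩⟩ i rfl).symm
  intro k
  induction k with
  | zero =>
    intro M _ _ _ _ _ hk h
    have : ∀ μ : M, μ = 0 := fun μ => by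
      rw [← one_smul (MvPolynomial ι A) μ]
      exact hk 1 (by rw [pow_zero, Ideal.one_eq_top]; trivial) μ
    exact ⟨0, fun j => (this _).trans (this _).symm⟩
  | succ k ih =>
    intro M _ _ _ _ hJ hk h
    let N : Submodule (MvPolynomial ι A) M := (n ^ k) • ⊤
    have hNn : ∀ x ∈ n, ∀ μ : N, x • μ = 0 := fun x hx μ => Subtype.ext <| by
      refine Submodule.smul_induction_on (p := fun v => x • v = 0) μ.2 (fun y hy v _ => ?_) fun v w hv hw => ?_
      · rw [← mul_smul]
        exact hk _ (by rw [pow_succ']; exact Ideal.mul_mem_mul hx hy) v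
      · rw [smul_add, hv, hw, add_zero]
    obtain ⟨D₀, hD₀⟩ := ih (M ⧸ N)
      (fun x hx μ => by
        obtain ⟨μ, rfl⟩ := Submodule.mkQ_surjective N μ
        rw [← map_smul, hJ x hx, map_zero])
      (fun x hx μ => by
        obtain ⟨μ, rfl⟩ := Submodule.mkQ_surjective N μ
        rw [← map_smul, Submodule.mkQ_apply, Submodule.Quotient.mk_eq_zero]
        exact Submodule.smul_mem_smul hx Submodule.mem_top) (N.mkQ.comp h)
    choose v hv using fun b => Submodule.mkQ_surjective N (D₀ (X b))
    let D₁ : Derivation A (MvPolynomial ι A) M := mkDerivation A v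
    have hD₁ : N.mkQ.compDer D₁ = D₀ := derivation_ext fun b => by
      show N.mkQ (D₁ (X b)) = _
      rw [mkDerivation_X, hv]
    obtain ⟨l, hl⟩ := hlin hJ D₁
    have hmem : ∀ i, (h - l) i ∈ N := fun i => by
      rw [← Submodule.Quotient.mk_eq_zero, LinearMap.sub_apply, Submodule.Quotient.mk_sub, sub_eq_zero, hl]
      exact (hD₀ i).symm.trans (DFunLike.congr_fun hD₁ i.1).symm
    obtain ⟨D₂, hD₂⟩ := base N hNn ((h - l).codRestrict N hmem)
    refine ⟨D₁ + N.subtype.compDer D₂, fun i => ?_⟩
    show D₁ i.1 + (D₂ i.1).1 = h i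
    rw [hD₂, LinearMap.codRestrict_apply, LinearMap.sub_apply, hl, add_sub_cancel]

/-- The derivation criterion for adic formal smoothness. -/
theorem adicFS_of_derExt [IsLocalRing B] (π : MvPolynomial ι A →ₐ[A] B) (hπ : Function.Surjective π)
    (hD : DerExt π (maximalIdeal B)) : CAlgX.IsAdicFormallySmooth A B (maximalIdeal B) := by
  intro C _ _ J hJ2 ψ ⟨k, hk⟩
  choose c hc using fun b => Ideal.Quotient.mk_surjective (ψ (π (X b)))
  let φ : MvPolynomial ι A →ₐ[A] C := aeval c
  have hφ : ∀ x, Ideal.Quotient.mk J (φ x) = ψ (π x) := fun x => by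
    have : (Ideal.Quotient.mkₐ A J).comp φ = ψ.comp π := algHom_ext fun b => by simpa [φ] using hc b
    exact AlgHom.congr_fun this x
  have hφJ : ∀ x ∈ RingHom.ker π, φ x ∈ J := fun x hx => by
    rw [← Ideal.Quotient.eq_zero_iff_mem, hφ, RingHom.mem_ker.1 hx, map_zero]
  letI : Algebra (MvPolynomial ι A) C := φ.toRingHom.toAlgebra
  haveI : IsScalarTower A (MvPolynomial ι A) C := .of_algebraMap_eq fun a => (φ.commutes a).symm
  have hsq : ∀ x : MvPolynomial ι A, φ x ∈ J → ∀ μ : J, x • μ = 0 := fun x hx μ => Subtype.ext <| by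
    show φ x * μ.1 = 0
    have := Ideal.mul_mem_mul hx μ.2
    rwa [← pow_two, hJ2, Ideal.mem_bot] at this
  let h : RingHom.ker π →ₗ[MvPolynomial ι A] J :=
    { toFun := fun j => ⟨φ j.1, hφJ j.1 j.2⟩
      map_add' := fun j j' => Subtype.ext (map_add φ j.1 j'.1)
      map_smul' := fun x j => Subtype.ext (map_mul φ x j.1) }
  obtain ⟨D, hDj⟩ := exists_derivation_of_derExt π hπ hD k J (fun x hx => hsq x (hφJ x hx))
    (fun x hx => hsq x (by
      rw [← Ideal.Quotient.eq_zero_iff_mem, hφ]
      refine hk _ ?_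
      have h1 := Ideal.mem_map_of_mem π hx
      rwa [Ideal.map_pow, Ideal.map_comap_of_surjective π hπ] at h1)) h
  let φ' : MvPolynomial ι A →ₐ[A] C :=
    AlgHom.ofLinearMap (φ.toLinearMap - ((J.subtype.restrictScalars A).comp D.toLinearMap))
      (by
        show φ 1 - (D 1 : J).1 = 1
        rw [map_one, D.map_one_eq_zero]
        exact sub_zero _)
      (fun x y => by
        show φ (x * y) - (D (x * y) : J).1 = (φ x - (D x : J).1) * (φ y - (D y : J).1)
        have h0 := Ideal.mul_mem_mul (D x).2 (D y).2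
        rw [← pow_two, hJ2, Ideal.mem_bot] at h0
        rw [map_mul, Derivation.leibniz]
        show φ x * φ y - (φ x * (D y).1 + φ y * (D x).1) = _
        linear_combination -h0)
  have hφ'0 : ∀ x ∈ RingHom.ker π, φ' x = 0 := fun x hx => by
    show φ x - (D x : J).1 = 0
    rw [hDj ⟨x, hx⟩]
    exact sub_self _
  refine ⟨(Ideal.Quotient.liftₐ (RingHom.ker π) φ' hφ'0).comp
    (Ideal.quotientKerAlgEquivOfSurjective hπ).symm.toAlgHom, AlgHom.ext fun b => ?_⟩
  obtain ⟨x, rfl⟩ := hπ b
  have h1 : (Ideal.quotientKerAlgEquivOfSurjective hπ).symm (π x) = Ideal.Quotient.mk _ x :=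
    (Ideal.quotientKerAlgEquivOfSurjective hπ).symm_apply_eq.2 rfl
  show Ideal.Quotient.mk J (Ideal.Quotient.liftₐ (RingHom.ker π) φ' hφ'0
    ((Ideal.quotientKerAlgEquivOfSurjective hπ).symm (π x))) = _
  rw [h1]
  show Ideal.Quotient.mk J (φ x - (D x : J).1) = _
  rw [map_sub, Ideal.Quotient.eq_zero_iff_mem.2 (D x).2, sub_zero, hφ]

end AdicFSLib
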