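import Groth.Agent.AdicFSLib.Fibre
import Groth.Agent.AdicFSLib.Flat
import Groth.Agent.AdicFSLib.Lifting
import Groth.Agent.AdicFSLib.Lift
import Groth.Agent.JacFSLib.GeomReg
import Groth.Agent.S4512
import Groth.Agent.S2461
import Groth.Agent.S2462
import Groth.Agent.GeomRedFibLib.CplMap
import Groth.Agent.GeomRedFibLib.CplFibres
import Groth.Prelude.Def_Found

/-!
# Adic formal smoothness, flatness and the closed fibre (EGA 0IV 19.7.1)
-/

set_option autoImplicit false
set_option linter.style.haveILetI false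
set_option maxHeartbeats 800000

universe u

open IsLocalRing TensorProduct

namespace AdicFSLib

theorem isGeometricallyRegular_iff_adicFS {k R : Type u} [Field k] [CommRing R] [IsLocalRing R] [IsNoetherianRing R]
    [Algebra k R] : CAlg.IsGeometricallyRegular k R ↔ CAlgX.IsAdicFormallySmooth k R (maximalIdeal R) :=
  ⟨JacFSLib.adic_of_isGeometricallyRegular, fun h => (Groth.Agent.S4512.result h).1⟩

variable {A B : Type u} [CommRing A] [CommRing B] [IsLocalRing A] [IsLocalRing B] [IsNoetherianRing B] [Algebra A B]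
  [IsLocalHom (algebraMap A B)]

theorem adicFS_of_flat [Module.Flat A B]
    (h : CAlg.IsGeometricallyRegular (maximalIdeal A).ResidueField ((maximalIdeal A).Fiber B)) :
    CAlgX.IsAdicFormallySmooth A B (maximalIdeal B) := by
  haveI := isLocalRing_fibre A B
  haveI := GeomRedFibLib.isNoetherianRing_fiber A B (maximalIdeal A)
  let π : MvPolynomial B A →ₐ[A] B := MvPolynomial.aeval id
  have hπ : Function.Surjective π := fun b => ⟨MvPolynomial.X b, by simp [π]⟩
  exact adicFS_of_derExt π hπ (derExt_of_flat π hπ (maximalIdeal A) (IsLocalRing.map_maximalIdeal_le _)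
    (toFibre A B) (toFibre_surjective A B) (ker_toFibre A B)
    (weakFS_of_residueField _ (isGeometricallyRegular_iff_adicFS.1 h)))

theorem isGeometricallyRegular_fibre_of_adicFS (h : CAlgX.IsAdicFormallySmooth A B (maximalIdeal B)) :
    CAlg.IsGeometricallyRegular (maximalIdeal A).ResidueField ((maximalIdeal A).Fiber B) := by
  haveI := isLocalRing_fibre A B
  haveI := GeomRedFibLib.isNoetherianRing_fiber A B (maximalIdeal A)
  exact isGeometricallyRegular_iff_adicFS.2 (adicFS_fibre h)

/-- A complete adically formally smooth algebra over a complete base is the flat lift of its closed fibre. -/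
theorem exists_equiv_of_adicFS [IsAdicComplete (maximalIdeal B) B]
    (h : CAlgX.IsAdicFormallySmooth A B (maximalIdeal B)) {C : Type u} [CommRing C] [IsLocalRing C]
    [IsNoetherianRing C] [IsAdicComplete (maximalIdeal C) C] [Algebra A C] [Module.Flat A C]
    [IsLocalHom (algebraMap A C)] {D : Type u} [CommRing D] [IsLocalRing D] [Algebra A D]
    (gB : B →ₐ[A] D) (hgB : Function.Surjective gB) (hkB : RingHom.ker gB = (maximalIdeal A).map (algebraMap A B))
    (gC : C →ₐ[A] D) (hgC : Function.Surjective gC) (hkC : RingHom.ker gC = (maximalIdeal A).map (algebraMap A C)) :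
    ∃ e : B ≃ₐ[A] C, gC.comp e.toAlgHom = gB := by
  let J := RingHom.ker gC
  have hJ : J ≠ ⊤ := RingHom.ker_ne_top gC
  let u : B →ₐ[A] C ⧸ J := (Ideal.quotientKerAlgEquivOfSurjective hgC).symm.toAlgHom.comp gB
  have hmaxC : (maximalIdeal C).map gC.toRingHom = maximalIdeal D :=
    IsLocalRing.map_maximalIdeal_of_surjective _ hgC
  have hmaxB : (maximalIdeal B).map gB.toRingHom = maximalIdeal D :=
    IsLocalRing.map_maximalIdeal_of_surjective _ hgB
  haveI : Nontrivial (C ⧸ J) := Ideal.Quotient.nontrivial_iff.2 hJ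
  haveI : IsLocalRing (C ⧸ J) := IsLocalRing.of_surjective' _ Ideal.Quotient.mk_surjective
  have husurj : Function.Surjective u :=
    (Ideal.quotientKerAlgEquivOfSurjective hgC).symm.surjective.comp hgB
  obtain ⟨v, hv, hvu⟩ := Groth.Agent.S2462.result ⊥ (maximalIdeal B)
    ((CohenLib.isFormallySmoothAdic_bot_iff _).1 h) (C := C) (by simp) J hJ u
    (by rw [IsLocalRing.map_maximalIdeal_of_surjective _ husurj,
      IsLocalRing.map_maximalIdeal_of_surjective _ Ideal.Quotient.mk_surjective])
  have hgv : ∀ x, gC (v x) = gB x := fun x => by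
    have h1 := congrArg (Ideal.quotientKerAlgEquivOfSurjective hgC) (AlgHom.congr_fun hvu x)
    exact h1.trans ((Ideal.quotientKerAlgEquivOfSurjective hgC).apply_symm_apply _)
  have hmap : (maximalIdeal A).map (algebraMap A C) ≤ (maximalIdeal B).map v.toRingHom := by
    rw [← v.comp_algebraMap, ← Ideal.map_map]
    exact Ideal.map_mono (IsLocalRing.map_maximalIdeal_le _)
  have hres : ∀ r, ∃ q, r - v q ∈ (maximalIdeal A).map (algebraMap A C) := fun r => by
    obtain ⟨q, hq⟩ := hgB (gC r)
    exact ⟨q, hkC ▸ RingHom.mem_ker.2 (by rw [map_sub, hgv, hq, sub_self])⟩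
  have hm : (maximalIdeal B).map v.toRingHom = maximalIdeal C := by
    refine le_antisymm hv fun r hr => ?_
    have h1 : gC r ∈ (maximalIdeal B).map gB.toRingHom := hmaxB ▸ hmaxC ▸ Ideal.mem_map_of_mem gC.toRingHom hr
    obtain ⟨q, hq, hqr⟩ := (Ideal.mem_map_iff_of_surjective gB.toRingHom hgB).1 h1
    have h2 : r - v q ∈ (maximalIdeal A).map (algebraMap A C) :=
      hkC ▸ RingHom.mem_ker.2 (by rw [map_sub, hgv]; exact sub_eq_zero.2 hqr.symm)
    simpa using add_mem (hmap h2) (Ideal.mem_map_of_mem v.toRingHom hq)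
  have hsurj : Function.Surjective v := CohenLib.surjective_of_complete (maximalIdeal C) (maximalIdeal B) v.toRingHom hm
    fun r => (hres r).imp fun q hq => IsLocalRing.map_maximalIdeal_le _ hq
  have hinj : Function.Injective v := by
    rw [RingHom.injective_iff_ker_eq_bot v]
    refine Submodule.eq_bot_of_le_smul_of_le_jacobson_bot (maximalIdeal B) _ (IsNoetherian.noetherian _)
      (fun x hx => ?_) (maximalIdeal_le_jacobson _)
    have hxm : x ∈ (maximalIdeal A).map (algebraMap A B) :=
      hkB ▸ RingHom.mem_ker.2 (by rw [← hgv, RingHom.mem_ker.1 hx, map_zero])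
    rw [smul_eq_mul]
    exact Ideal.mul_mono_left (IsLocalRing.map_maximalIdeal_le _)
      (CohenLib.mem_map_mul_of_flat v hsurj (maximalIdeal A) hxm (RingHom.mem_ker.1 hx))
  exact ⟨AlgEquiv.ofBijective v ⟨hinj, hsurj⟩, AlgHom.ext hgv⟩

/-- The closed fibre of a complete adically formally smooth algebra is a power series ring over a field. -/
theorem exists_fibre_powerSeries [IsAdicComplete (maximalIdeal B) B]
    (h : CAlgX.IsAdicFormallySmooth A B (maximalIdeal B)) :
    ∃ (K : Type u) (_ : Field K) (d : ℕ), Nonempty ((maximalIdeal A).Fiber B ≃+* MvPowerSeries (Fin d) K) := by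
  let F := (maximalIdeal A).Fiber B
  haveI := isLocalRing_fibre A B
  haveI := GeomRedFibLib.isNoetherianRing_fiber A B (maximalIdeal A)
  haveI : IsAdicComplete (maximalIdeal F) F := by
    let e : (B ⧸ RingHom.ker (toFibre A B).toRingHom) ≃+* F :=
      RingHom.quotientKerEquivOfSurjective (toFibre_surjective A B)
    haveI : IsLocalRing (B ⧸ RingHom.ker (toFibre A B).toRingHom) := e.symm.isLocalRing
    have h1 := NormalLib.isAdicComplete_quotient_local (R := B) (RingHom.ker (toFibre A B).toRingHom)
    rw [← IsAdicComplete.congr_ringEquiv _ e] at h1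
    rwa [IsLocalRing.map_ringEquiv_maximalIdeal] at h1
  obtain ⟨d, ⟨σ⟩⟩ := (Groth.Agent.S4512.result (adicFS_fibre h)).2
  exact ⟨_, inferInstance, d, ⟨(AdicCompletion.ofAlgEquiv (maximalIdeal F)).toRingEquiv.trans σ⟩⟩

theorem flat_of_adicFS_complete [IsNoetherianRing A] (h : CAlgX.IsAdicFormallySmooth A B (maximalIdeal B))
    [IsAdicComplete (maximalIdeal B) B] : Module.Flat A B := by
  obtain ⟨K, _, d, ⟨e⟩⟩ := exists_fibre_powerSeries h
  let F := (maximalIdeal A).Fiber B
  let Ah := GeomRedFibLib.Hat A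
  haveI := GeomRedFibLib.isNoetherianRing_cpl A
  haveI := GeomRedFibLib.faithfullyFlat_hat A
  let m := maximalIdeal A
  let θ₀ : A →+* MvPowerSeries (Fin d) K := e.toRingHom.comp (algebraMap A F)
  have hθ₀ : ∀ a ∈ m, θ₀ a = 0 := fun a ha => by
    show e (algebraMap A F a) = 0
    rw [IsScalarTower.algebraMap_apply A m.ResidueField, Ideal.algebraMap_residueField_eq_zero.2 ha, map_zero,
      map_zero]
  let θ : Ah →+* MvPowerSeries (Fin d) K :=
    (Ideal.Quotient.lift m θ₀ hθ₀).comp (AdicCompletion.evalOneₐ m).toRingHom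
  have hθA : ∀ a, θ (algebraMap A Ah a) = θ₀ a := fun a => by
    show Ideal.Quotient.lift m θ₀ hθ₀ (AdicCompletion.evalOneₐ m (algebraMap A Ah a)) = _
    rw [AlgHom.commutes]
    exact Ideal.Quotient.lift_mk _ _ _
  have hθ : ∀ x ∈ maximalIdeal Ah, θ x = 0 := fun x hx => by
    rw [AdicCompletion.maximalIdeal_eq_map] at hx
    have h1 : x ∈ RingHom.ker θ := (Ideal.map_le_iff_le_comap.2 fun a ha => by
      show θ (algebraMap A Ah a) = 0
      rw [hθA, hθ₀ a ha]) hx
    exact h1
  obtain ⟨C, _, _, _, g, _, hcC, hflat, hloc, hg, hgθ, hkg⟩ := exists_flat_lift θ hθ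
  haveI := hcC
  haveI := hflat
  haveI := hloc
  letI : Algebra A C := ((algebraMap Ah C).comp (algebraMap A Ah)).toAlgebra
  haveI : IsScalarTower A Ah C := .of_algebraMap_eq fun _ => rfl
  haveI : Module.Flat A C := Module.Flat.trans A Ah C
  haveI : IsLocalHom (algebraMap A C) :=
    RingHom.isLocalHom_comp (algebraMap Ah C) (algebraMap A Ah)
  haveI := isLocalRing_fibre A B
  let gC : C →ₐ[A] F :=
    { e.symm.toRingHom.comp g with
      commutes' := fun a => by
        show e.symm (g (algebraMap Ah C (algebraMap A Ah a))) = _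
        rw [← RingHom.comp_apply g, hgθ, hθA]
        exact e.symm_apply_apply _ }
  have hgC : Function.Surjective gC := e.symm.surjective.comp hg
  have hkC : RingHom.ker gC = m.map (algebraMap A C) := by
    have h1 : RingHom.ker gC = RingHom.ker g := Ideal.ext fun x => by
      rw [RingHom.mem_ker, RingHom.mem_ker]
      exact e.symm.map_eq_zero_iff
    rw [h1, hkg, AdicCompletion.maximalIdeal_eq_map, Ideal.map_map, ← IsScalarTower.algebraMap_eq]
  obtain ⟨ε, -⟩ := exists_equiv_of_adicFS h (toFibre A B) (toFibre_surjective A B) (ker_toFibre A B) gC hgC hkC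
  exact Module.Flat.of_linearEquiv ε.toLinearEquiv

theorem flat_of_adicFS [IsNoetherianRing A] (h : CAlgX.IsAdicFormallySmooth A B (maximalIdeal B)) :
    Module.Flat A B := by
  let Bh := GeomRedFibLib.Hat B
  haveI := GeomRedFibLib.isNoetherianRing_cpl B
  haveI := GeomRedFibLib.faithfullyFlat_hat B
  haveI : IsLocalHom (algebraMap A Bh) := by
    rw [IsScalarTower.algebraMap_eq A B Bh]
    exact RingHom.isLocalHom_comp _ _
  have h1 : CAlgX.IsAdicFormallySmooth A Bh (maximalIdeal Bh) := by
    rw [CohenLib.isFormallySmoothAdic_bot_iff, AdicCompletion.maximalIdeal_eq_map]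
    exact (Groth.Agent.S2461.result ⊥ (maximalIdeal B)).1 ((CohenLib.isFormallySmoothAdic_bot_iff _).1 h)
  haveI := flat_of_adicFS_complete h1
  exact GeomRedFibLib.flat_of_comp A B Bh

end AdicFSLib
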