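import Groth.Agent.GRingLib.RegHom
import Groth.Agent.GeomRedFibLib.CplLocal
import Groth.Agent.AdicFSLib.Main

/-!
# Regularity from the closed fibres of all local homomorphisms
-/

set_option autoImplicit false
set_option linter.style.haveILetI false
set_option synthInstance.maxHeartbeats 400000
set_option maxHeartbeats 1600000

universe u

open IsLocalRing TensorProduct GeomRedFibLib

namespace AdicFSLib

/-- A base change to a field can be checked at the primes in the fibre. -/
theorem ringP_bc_of_forall_prime {P : ∀ (R : Type u) [CommRing R], Prop}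
    (hP : ∀ (R S : Type u) [CommRing R] [CommRing S], (R ≃+* S) → P R → P S)
    (A B k' : Type u) [CommRing A] [CommRing B] [Algebra A B] [Field k'] [Algebra A k']
    (h : ∀ (M : Ideal B) [M.IsPrime], M.comap (algebraMap A B) = RingHom.ker (algebraMap A k') →
      RingP P (k' ⊗[A] Localization.AtPrime M)) :
    RingP P (k' ⊗[A] B) := by
  intro Q _
  let M := Q.comap (Algebra.TensorProduct.includeRight : B →ₐ[A] k' ⊗[A] B).toRingHom
  have hM : M.comap (algebraMap A B) = RingHom.ker (algebraMap A k') := by
    rw [Ideal.comap_comap, show (Algebra.TensorProduct.includeRight : B →ₐ[A] k' ⊗[A] B).toRingHom.comp (algebraMap A B) =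
        algebraMap A (k' ⊗[A] B) from RingHom.ext fun x ↦ (Algebra.TensorProduct.includeRight : B →ₐ[A] k' ⊗[A] B).commutes x, IsScalarTower.algebraMap_eq A k' (k' ⊗[A] B), ← Ideal.comap_comap,
      (Ideal.eq_bot_or_top (Q.comap (algebraMap k' (k' ⊗[A] B)))).resolve_right (Ideal.IsPrime.ne_top inferInstance),
      ← RingHom.ker_eq_comap_bot]
  let S := Localization.AtPrime M
  let a := IsScalarTower.toAlgHom A B S
  let f : k' ⊗[A] B →ₐ[A] k' ⊗[A] S := Algebra.TensorProduct.map (AlgHom.id A k') a
  have hid : (AlgHom.id A k').toRingHom.SurjectiveOnStalks :=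
    RingHom.surjectiveOnStalks_of_surjective Function.surjective_id
  have hs : f.toRingHom.SurjectiveOnStalks :=
    RingHom.SurjectiveOnStalks.tensorProductMap (f := AlgHom.id A k') (g := a) hid
      (RingHom.surjectiveOnStalks_of_isLocalization M.primeCompl S)
  have hfl : f.toRingHom.Flat := by
    let f₁ := Algebra.TensorProduct.map a (AlgHom.id A k')
    let c₁ := (Algebra.TensorProduct.comm A k' B).toRingEquiv
    let c₂ := (Algebra.TensorProduct.comm A S k').toRingEquiv
    have h1 : f₁.toRingHom.Flat := flat_map_tensor A B S k' a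
      (RingHom.flat_algebraMap_iff.mpr (IsLocalization.flat S M.primeCompl))
    have he : f.toRingHom = c₂.toRingHom.comp (f₁.toRingHom.comp c₁.toRingHom) := by
      refine RingHom.ext fun w ↦ ?_
      induction w using TensorProduct.induction_on with
      | zero => simp
      | add x y hx hy => simp only [map_add, hx, hy]
      | tmul x y => simp [f, f₁, c₁, c₂]
    rw [he]
    exact ((RingHom.Flat.of_bijective c₁.bijective).comp h1).comp (RingHom.Flat.of_bijective c₂.bijective)
  let φ : k' ⊗[A] B →ₐ[A] Q.ResidueField := IsScalarTower.toAlgHom A (k' ⊗[A] B) Q.ResidueField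
  let φB : B →ₐ[A] Q.ResidueField := φ.comp Algebra.TensorProduct.includeRight
  have hB' : ∀ y : M.primeCompl, IsUnit (φB y) := fun y ↦
    isUnit_iff_ne_zero.mpr fun h ↦ y.2 ((Ideal.algebraMap_residueField_eq_zero (I := Q)).mp h)
  let ψ : k' ⊗[A] S →ₐ[A] Q.ResidueField :=
    Algebra.TensorProduct.lift (φ.comp Algebra.TensorProduct.includeLeft)
      (IsLocalization.liftAlgHom (S := S) (f := φB) hB') fun _ _ ↦ .all _ _
  have hψ : ∀ w, ψ (f w) = φ w := fun w ↦ by
    induction w using TensorProduct.induction_on with
    | zero => simp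
    | add x y hx hy => simp only [map_add, hx, hy]
    | tmul x y =>
      simp only [ψ, f, Algebra.TensorProduct.map_tmul, Algebra.TensorProduct.lift_tmul, a, AlgHom.id_apply,
        IsScalarTower.toAlgHom_apply, IsLocalization.liftAlgHom_apply, IsLocalization.lift_eq]
      show φ (x ⊗ₜ 1) * φ (1 ⊗ₜ y) = _
      rw [← map_mul, Algebra.TensorProduct.tmul_mul_tmul, mul_one, one_mul]
  let q := RingHom.ker ψ.toRingHom
  haveI : q.IsPrime := RingHom.ker_isPrime _
  have hQ : q.comap f.toRingHom = Q := by
    ext w
    show ψ (f w) = 0 ↔ w ∈ Q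
    rw [hψ]
    exact Ideal.algebraMap_residueField_eq_zero
  obtain ⟨σ⟩ := exists_locEquiv f.toRingHom hfl hs q
  have key := hP _ _ σ.symm (h M hM q)
  have aux : ∀ (Q₁ : Ideal (k' ⊗[A] B)) [Q₁.IsPrime], Q₁ = Q → P (Localization.AtPrime Q₁) → P (Localization.AtPrime Q) := by
    rintro Q₁ _ rfl h'
    exact h'
  exact aux _ hQ key

/-- A homomorphism is regular when all its local homomorphisms are flat with geometrically regular closed fibres. -/
theorem isRegularHom_of_forall_fibre (R Λ : Type u) [CommRing R] [CommRing Λ] [Algebra R Λ] [IsNoetherianRing Λ]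
    (h : ∀ (n : Ideal Λ) [n.IsPrime],
      letI := (Localization.localRingHom (n.comap (algebraMap R Λ)) n (algebraMap R Λ) rfl).toAlgebra
      Module.Flat (Localization.AtPrime (n.comap (algebraMap R Λ))) (Localization.AtPrime n) ∧
        CAlg.IsGeometricallyRegular (maximalIdeal (Localization.AtPrime (n.comap (algebraMap R Λ)))).ResidueField
          ((maximalIdeal (Localization.AtPrime (n.comap (algebraMap R Λ)))).Fiber (Localization.AtPrime n))) :
    CAlg.IsRegularHom R Λ := by
  refine ⟨?_, fun p _ ↦ ?_⟩
  · refine Module.flat_of_isLocalized_maximal (R := R) (S := Λ) (M := Λ) (fun n _ ↦ Localization.AtPrime n)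
      (fun n _ ↦ Algebra.linearMap Λ (Localization.AtPrime n)) fun n _ ↦ ?_
    letI := (Localization.localRingHom (n.comap (algebraMap R Λ)) n (algebraMap R Λ) rfl).toAlgebra
    haveI : IsScalarTower R (Localization.AtPrime (n.comap (algebraMap R Λ))) (Localization.AtPrime n) :=
      .of_algebraMap_eq fun x ↦ (IsScalarTower.algebraMap_apply R Λ (Localization.AtPrime n) x).trans
        (Localization.localRingHom_to_map _ n (algebraMap R Λ) rfl x).symm
    haveI := (h n).1
    haveI : Module.Flat R (Localization.AtPrime (n.comap (algebraMap R Λ))) :=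
      IsLocalization.flat _ (n.comap (algebraMap R Λ)).primeCompl
    haveI : Module.Flat R (Localization.AtPrime n) :=
      Module.Flat.trans R (Localization.AtPrime (n.comap (algebraMap R Λ))) _
    infer_instance
  · haveI := isNoetherianRing_fiber R Λ p
    refine ⟨inferInstance, fun k' _ _ hk ↦ ?_⟩
    haveI := hk
    rw [isRegularRing_finite_bc_iff]
    letI : Algebra R k' := ((algebraMap p.ResidueField k').comp (algebraMap R p.ResidueField)).toAlgebra
    haveI : IsScalarTower R p.ResidueField k' := .of_algebraMap_eq fun _ ↦ rfl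
    refine RingP.congr isFlatLocalProp_regular
      (Algebra.TensorProduct.cancelBaseChange R p.ResidueField p.ResidueField k' Λ).toRingEquiv.symm
      (ringP_bc_of_forall_prime isFlatLocalProp_regular.congr R Λ k' fun n _ hn ↦ ?_)
    have hkp : RingHom.ker (algebraMap R k') = p := by
      show RingHom.ker ((algebraMap p.ResidueField k').comp (algebraMap R p.ResidueField)) = p
      rw [RingHom.ker_comp_of_injective _ (algebraMap p.ResidueField k').injective, Ideal.ker_algebraMap_residueField]
    rw [hkp] at hn
    let m := n.comap (algebraMap R Λ)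
    let Rm := Localization.AtPrime m
    let Ln := Localization.AtPrime n
    letI := (Localization.localRingHom m n (algebraMap R Λ) rfl).toAlgebra
    haveI : IsScalarTower R Rm Ln := .of_algebraMap_eq fun x ↦ (IsScalarTower.algebraMap_apply R Λ Ln x).trans
      (Localization.localRingHom_to_map m n (algebraMap R Λ) rfl x).symm
    have hp : p = (maximalIdeal Rm).comap (algebraMap R Rm) :=
      hn.symm.trans (IsLocalization.AtPrime.under_maximalIdeal Rm m).symm
    haveI : IsNoetherianRing Ln := IsLocalization.isNoetherianRing n.primeCompl _ inferInstance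
    have hg := (isGeometricallyRegular_fiber_iff (IsLocalization.algebraLid m.primeCompl Rm Ln) p
      (maximalIdeal Rm) (RingHom.surjectiveOnStalks_of_isLocalization m.primeCompl Rm) hp).mp
      (h n).2 k' hk
    haveI := isNoetherianRing_fiber R Ln p
    exact RingP.congr isFlatLocalProp_regular
      (Algebra.TensorProduct.cancelBaseChange R p.ResidueField p.ResidueField k' Ln).toRingEquiv
      ((isRegularRing_finite_bc_iff _ _ _).mp hg)

end AdicFSLib
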