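import Groth.Agent.CohenLib.PSLocal
import Groth.Agent.CatLib.Flat
import Groth.Agent.FlatCrit.Basic
import Mathlib.RingTheory.TensorProduct.MvPolynomial
import Mathlib.RingTheory.AdicCompletion.AsTensorProduct
import Mathlib.RingTheory.Flat.Stability
import Mathlib.RingTheory.RingHom.Flat

/-!
# Power series over a flat algebra
-/

set_option autoImplicit false
set_option linter.style.haveILetI false

universe u

open IsLocalRing TensorProduct

namespace AdicFSLib

theorem algebraMap_polynomial_map {Λ W : Type u} [CommRing Λ] [CommRing W] (v : Λ →+* W) {n : ℕ}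
    (f : MvPolynomial (Fin n) Λ) :
    algebraMap (MvPolynomial (Fin n) W) (MvPowerSeries (Fin n) W) (MvPolynomial.map v f) =
      MvPowerSeries.map v (algebraMap (MvPolynomial (Fin n) Λ) (MvPowerSeries (Fin n) Λ) f) := by
  ext m
  simp [MvPowerSeries.algebraMap_apply', MvPolynomial.coeff_map, MvPowerSeries.coeff_map]

theorem flat_mvPowerSeries_polynomial (W : Type u) [CommRing W] [IsNoetherianRing W] (n : ℕ) :
    Module.Flat (MvPolynomial (Fin n) W) (MvPowerSeries (Fin n) W) := by
  haveI := AdicCompletion.flat_of_isNoetherian (MvPolynomial.idealOfVars (Fin n) W)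
  exact Module.Flat.of_linearEquiv (MvPowerSeries.toAdicCompletionAlgEquiv (Fin n) W).toLinearEquiv

/-- Power series rings over a flat local algebra are flat. -/
theorem flat_mvPowerSeries_map {Λ W : Type u} [CommRing Λ] [CommRing W] [IsNoetherianRing Λ] [IsNoetherianRing W]
    [IsLocalRing W] (v : Λ →+* W) (hv : v.Flat) (n : ℕ) :
    (MvPowerSeries.map (σ := Fin n) v).Flat := by
  let Q := MvPolynomial (Fin n) Λ
  let S := MvPowerSeries (Fin n) Λ
  let T := MvPowerSeries (Fin n) W
  letI : Algebra Λ W := v.toAlgebra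
  haveI : Module.Flat Λ W := hv
  letI : Algebra Q (MvPolynomial (Fin n) W) := MvPolynomial.algebraMvPolynomial
  haveI : Module.Flat Q (MvPolynomial (Fin n) W) :=
    Module.Flat.isBaseChange (R := Λ) (S := Q) (M := W) (MvPolynomial (Fin n) W)
      (Algebra.IsPushout.out (R := Λ) (S := Q) (R' := W) (S' := MvPolynomial (Fin n) W))
  haveI := flat_mvPowerSeries_polynomial W n
  let st : S →+* T := MvPowerSeries.map v
  letI : Algebra S T := st.toAlgebra
  letI : Algebra Q T := (st.comp (algebraMap Q S)).toAlgebra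
  haveI : IsScalarTower Q S T := .of_algebraMap_eq fun _ => rfl
  haveI : IsScalarTower Q (MvPolynomial (Fin n) W) T :=
    .of_algebraMap_eq fun f => (algebraMap_polynomial_map v f).symm
  haveI : Module.Flat Q T := Module.Flat.trans Q (MvPolynomial (Fin n) W) T
  haveI : IsNoetherianRing S := CohenLib.isNoetherianRing_mvPowerSeries (Λ := Λ) (n := n)
  haveI : IsNoetherianRing T := CohenLib.isNoetherianRing_mvPowerSeries (Λ := W) (n := n)
  let I := CohenLib.varsIdeal Λ n
  let IQ := MvPolynomial.idealOfVars (Fin n) Λ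
  have hIQ : IQ.map (algebraMap Q S) = I := by
    show (Ideal.span _).map _ = Ideal.span _
    rw [Ideal.map_span, ← Set.range_comp]
    congr 2
    funext i
    simp [MvPowerSeries.algebraMap_apply', Q, S]
  refine (RingHom.flat_algebraMap_iff (R := S) (S := T)).2
    (FlatCrit.flat_of_flat_quotient_pow (S := T) (M := T) I ?_ fun m => ?_)
  · show (Ideal.span _).map _ ≤ _
    rw [Ideal.map_span, Ideal.span_le, IsLocalRing.jacobson_eq_maximalIdeal ⊥ bot_ne_top]
    rintro _ ⟨_, ⟨i, rfl⟩, rfl⟩
    show MvPowerSeries.map v (MvPowerSeries.X i) ∈ maximalIdeal T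
    rw [MvPowerSeries.map_X, CohenLib.maximalIdeal_mvPowerSeries]
    exact Submodule.mem_sup_right (Ideal.subset_span ⟨i, rfl⟩)
  · let R' := S ⧸ I ^ m
    haveI : Module.Flat R' (R' ⊗[Q] T) := Module.Flat.baseChange (R := Q) (S := R') (M := T)
    have hsm : ∀ r ∈ I ^ m, ∀ x : R', r • x = 0 := fun r hr x => by
      obtain ⟨x, rfl⟩ := Ideal.Quotient.mk_surjective x
      exact Ideal.Quotient.eq_zero_iff_mem.2 (Ideal.mul_mem_right _ _ hr)
    have hker : ∀ (x : R') (t : T) (i : S), i ∈ I ^ m → x ⊗ₜ[Q] (i • t) = 0 := fun x t i hi => by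
      rw [← hIQ, ← Ideal.map_pow] at hi
      induction hi using Submodule.span_induction generalizing t with
      | mem y hy =>
        obtain ⟨a, ha, rfl⟩ := hy
        rw [algebraMap_smul, ← TensorProduct.smul_tmul, show a • x = 0 from ?_, TensorProduct.zero_tmul]
        rw [← algebraMap_smul S a x]
        exact hsm _ (hIQ ▸ Ideal.map_pow (algebraMap Q S) IQ m ▸ Ideal.mem_map_of_mem _ ha) x
      | zero => rw [zero_smul, TensorProduct.tmul_zero]
      | add y z _ _ h1 h2 => rw [add_smul, TensorProduct.tmul_add, h1, h2, add_zero]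
      | smul c y _ h => rw [smul_eq_mul, mul_comm, mul_smul]; exact h _
    haveI : TensorProduct.CompatibleSMul Q S R' T := ⟨fun s x t => by
      obtain ⟨q, hq⟩ := CohenLib.exists_polynomial_sub_mem m s
      have hs : s • x = q • x := by
        rw [← algebraMap_smul S q x, ← sub_eq_zero, ← sub_smul]
        exact hsm _ hq x
      rw [hs, TensorProduct.smul_tmul, ← algebraMap_smul S q t, ← sub_eq_zero, ← TensorProduct.tmul_sub,
        ← sub_smul, ← neg_sub s, neg_smul, TensorProduct.tmul_neg, hker x t _ hq, neg_zero]⟩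
    exact Module.Flat.of_linearEquiv (TensorProduct.equivOfCompatibleSMul Q S R' R' T)

end AdicFSLib
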