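import Groth.Agent.AdicFSLib.CompleteRegular

/-!
# Regular homomorphisms and adic formal smoothness
-/

set_option autoImplicit false
set_option linter.style.haveILetI false
set_option synthInstance.maxHeartbeats 400000
set_option maxHeartbeats 1600000

universe u

open IsLocalRing TensorProduct GeomRedFibLib

namespace AdicFSLib

/-- An adically formally smooth local map of complete Noetherian local rings is a regular homomorphism. -/
theorem isRegularHom_of_adicFS_complete {A B : Type u} [CommRing A] [CommRing B] [IsLocalRing A] [IsLocalRing B]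
    [IsNoetherianRing A] [IsNoetherianRing B] [IsAdicComplete (maximalIdeal A) A] [IsAdicComplete (maximalIdeal B) B]
    [Algebra A B] [IsLocalHom (algebraMap A B)] (h : CAlgX.IsAdicFormallySmooth A B (maximalIdeal B)) :
    CAlg.IsRegularHom A B := by
  refine ⟨flat_of_adicFS_complete h, fun p _ ↦ ⟨GeomRedFibLib.isNoetherianRing_fiber A B p, fun L _ _ hL ↦ ?_⟩⟩
  haveI := GeomRedFibLib.isNoetherianRing_fiber A B p
  rw [isRegularRing_finite_bc_iff]
  let D := A ⧸ p
  let J : Ideal B := p.map (algebraMap A B)
  have hJ : J ≤ maximalIdeal B :=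
    (Ideal.map_mono (IsLocalRing.le_maximalIdeal (Ideal.IsPrime.ne_top inferInstance))).trans
      (IsLocalRing.map_maximalIdeal_le _)
  haveI : Nontrivial (B ⧸ J) :=
    Ideal.Quotient.nontrivial_iff.2 (ne_top_of_le_ne_top (maximalIdeal.isMaximal B).ne_top hJ)
  haveI : IsLocalRing (B ⧸ J) := IsLocalRing.of_surjective' _ Ideal.Quotient.mk_surjective
  haveI : IsLocalRing D := IsLocalRing.of_surjective' (Ideal.Quotient.mk p) Ideal.Quotient.mk_surjective
  haveI := NormalLib.isAdicComplete_quotient_local (R := B) J
  haveI := NormalLib.isAdicComplete_quotient_local (R := A) p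
  haveI : IsLocalHom (algebraMap D (B ⧸ J)) := ⟨fun x hx ↦ by
    obtain ⟨x, rfl⟩ := Ideal.Quotient.mk_surjective x
    haveI : IsLocalHom (Ideal.Quotient.mk J) := IsLocalHom.of_surjective _ Ideal.Quotient.mk_surjective
    exact ((isUnit_map_iff (algebraMap A B) x).mp ((isUnit_map_iff (Ideal.Quotient.mk J) _).mp hx)).map _⟩
  haveI : IsScalarTower A D (B ⧸ J) := .of_algebraMap_eq fun _ ↦ rfl
  have hB' : CAlgX.IsAdicFormallySmooth D (B ⧸ J) (maximalIdeal (B ⧸ J)) :=
    adicFS_of_quotient (A := A) (B := B) Ideal.Quotient.mk_surjective (Ideal.Quotient.mkₐ A J)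
      Ideal.Quotient.mk_surjective (by
        show RingHom.ker (Ideal.Quotient.mk J) = (RingHom.ker (Ideal.Quotient.mk p)).map (algebraMap A B)
        rw [Ideal.mk_ker, Ideal.mk_ker]) h
  letI : Algebra A L := ((algebraMap p.ResidueField L).comp (algebraMap A p.ResidueField)).toAlgebra
  haveI : IsScalarTower A p.ResidueField L := .of_algebraMap_eq fun _ ↦ rfl
  letI : Algebra D L := ((algebraMap p.ResidueField L).comp (algebraMap D p.ResidueField)).toAlgebra
  haveI : IsScalarTower A D L := .of_algebraMap_eq fun a ↦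
    congrArg (algebraMap p.ResidueField L) (IsScalarTower.algebraMap_apply A D p.ResidueField a)
  let σ : FractionRing D ≃ₐ[D] p.ResidueField := FractionRing.algEquiv D p.ResidueField
  letI : Algebra (FractionRing D) L := ((algebraMap p.ResidueField L).comp σ.toRingEquiv.toRingHom).toAlgebra
  haveI : IsScalarTower D (FractionRing D) L := .of_algebraMap_eq fun x ↦
    (congrArg (algebraMap p.ResidueField L) (σ.commutes x)).symm
  haveI : Module.Finite (FractionRing D) L := Module.Finite.of_equiv_equiv σ.symm.toRingEquiv (RingEquiv.refl L)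
    (RingHom.ext fun x ↦ by
      show algebraMap p.ResidueField L (σ (σ.symm x)) = algebraMap p.ResidueField L x
      rw [σ.apply_symm_apply])
  have key := ringP_generic_of_adicFS hB' L
  let e₀ : D ⊗[A] B ≃ₐ[A] B ⧸ J :=
    (Algebra.TensorProduct.comm A D B).trans
      ((Algebra.TensorProduct.quotIdealMapEquivTensorQuot B p).restrictScalars A).symm
  let eB : D ⊗[A] B ≃ₐ[D] B ⧸ J := AlgEquiv.ofRingEquiv (f := e₀.toRingEquiv) fun x ↦ by
    obtain ⟨a, rfl⟩ := Ideal.Quotient.mk_surjective x
    exact (congrArg e₀ (IsScalarTower.algebraMap_apply A D (D ⊗[A] B) a).symm).trans (e₀.commutes a)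
  refine RingP.congr isFlatLocalProp_regular
    (Algebra.TensorProduct.cancelBaseChange A p.ResidueField p.ResidueField L B).toRingEquiv.symm ?_
  exact RingP.congr isFlatLocalProp_regular
    (((Algebra.TensorProduct.congr (AlgEquiv.refl : L ≃ₐ[D] L) eB).symm.toRingEquiv).trans
      (Algebra.TensorProduct.cancelBaseChange A D D L B).toRingEquiv) key

end AdicFSLib
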