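import Groth.Agent.AdicFSLib.Lifting
import Mathlib.RingTheory.Length
import Mathlib.RingTheory.Artinian.Ring
import Mathlib.RingTheory.SimpleModule.Basic
import Mathlib.RingTheory.HopkinsLevitzki

/-!
# Lifting along small extensions suffices for adic formal smoothness
-/

set_option autoImplicit false
set_option linter.style.haveILetI false
set_option maxHeartbeats 600000

universe u

open IsLocalRing

namespace AdicFSLib

variable {A B : Type u} [CommRing A] [CommRing B] [Algebra A B] {P : Type u} [CommRing P] [Algebra A P]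

/-- Surjections onto small quotients of Artinian local rings lift. -/
def SmallLift (A B : Type u) [CommRing A] [CommRing B] [Algebra A B] [IsLocalRing B] : Prop :=
  ∀ (C : Type u) [CommRing C] [IsLocalRing C] [IsArtinianRing C] [Algebra A C] (J : Ideal C), J ^ 2 = ⊥ →
    Module.length C J = 1 → ∀ ψ : B →ₐ[A] C ⧸ J, (∃ k : ℕ, ∀ x ∈ maximalIdeal B ^ k, ψ x = 0) →
      Function.Surjective ψ → ∃ χ : B →ₐ[A] C, (Ideal.Quotient.mkₐ A J).comp χ = ψ

theorem derExt_of_smallLift [IsLocalRing B] [IsNoetherianRing B] (π : P →ₐ[A] B)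
    (hπ : Function.Surjective π) (hFS : SmallLift A B) : DerExt π (maximalIdeal B) := fun h => by
  classical
  by_cases h0 : h = 0
  · exact ⟨0, fun j => by simp [h0]⟩
  let n := (maximalIdeal B).comap π
  haveI hn : n.IsMaximal := Ideal.comap_isMaximal_of_surjective π hπ
  let J := RingHom.ker π
  have hJn : J ≤ n := fun x hx => by
    show π x ∈ maximalIdeal B
    rw [(RingHom.mem_ker).1 hx]
    exact zero_mem _
  -- an element with value one
  obtain ⟨j₀, hj₀⟩ : ∃ j₀ : J, h j₀ = Ideal.Quotient.mk n 1 := by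
    obtain ⟨j₁, hj₁⟩ : ∃ j₁, h j₁ ≠ 0 := by
      by_contra hc
      push Not at hc
      exact h0 (LinearMap.ext hc)
    letI := Ideal.Quotient.field n
    obtain ⟨y, hy⟩ := Ideal.Quotient.mk_surjective (h j₁)⁻¹
    refine ⟨y • j₁, ?_⟩
    rw [map_smul, Algebra.smul_def, map_one]
    show Ideal.Quotient.mk n y * h j₁ = 1
    rw [hy, inv_mul_cancel₀ hj₁]
  let N : Ideal P := (LinearMap.ker h).map J.subtype
  have hN : ∀ j : J, j.1 ∈ N ↔ h j = 0 := fun j => by
    refine ⟨fun hj => ?_, fun hj => ⟨j, hj, rfl⟩⟩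
    obtain ⟨j', hj', he⟩ := hj
    rw [← Subtype.ext he]
    exact hj'
  have hNJ : N ≤ J := fun x ⟨j, _, he⟩ => he ▸ j.2
  have hdec : ∀ j : J, ∃ y : P, j.1 - y * j₀.1 ∈ N := fun j => by
    obtain ⟨y, hy⟩ := Ideal.Quotient.mk_surjective (h j)
    refine ⟨y, (hN (j - y • j₀)).2 ?_⟩
    rw [map_sub, map_smul, hj₀, ← hy]
    show Ideal.Quotient.mk n y - Ideal.Quotient.mk n (y * 1) = 0
    rw [mul_one, sub_self]
  -- the small extension `P ⧸ N` of `B` is a Noetherian local ring
  let q := Ideal.Quotient.mk N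
  let πE : P ⧸ N →+* B := Ideal.Quotient.lift N π.toRingHom fun x hx => hNJ hx
  have hπE : Function.Surjective πE := fun b => by
    obtain ⟨x, rfl⟩ := hπ b
    exact ⟨q x, rfl⟩
  let e := q j₀.1
  have hker : ∀ z, πE z = 0 → z ∈ Ideal.span {e} := fun z hz => by
    obtain ⟨x, rfl⟩ := Ideal.Quotient.mk_surjective z
    obtain ⟨y, hy⟩ := hdec ⟨x, RingHom.mem_ker.2 hz⟩
    exact Ideal.mem_span_singleton'.2 ⟨q y, by rw [← map_mul]; exact (Ideal.Quotient.eq.2 hy).symm⟩
  have hsq : ∀ z, πE z = 0 → z * z = 0 := fun z hz => by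
    obtain ⟨x, rfl⟩ := Ideal.Quotient.mk_surjective z
    rw [← map_mul, Ideal.Quotient.eq_zero_iff_mem]
    refine (hN ⟨x * x, J.mul_mem_left _ (RingHom.mem_ker.2 hz)⟩).2 ?_
    rw [show (⟨x * x, _⟩ : J) = x • (⟨x, RingHom.mem_ker.2 hz⟩ : J) from rfl, map_smul]
    exact smul_quotient_eq_zero (hJn (RingHom.mem_ker.2 hz)) _
  have hprime : ∀ M : Ideal (P ⧸ N), M.IsPrime → ∀ z, πE z = 0 → z ∈ M := fun M hM z hz =>
    (hM.mem_or_mem (by rw [hsq z hz]; exact zero_mem M)).elim id id
  haveI : IsNoetherianRing (P ⧸ N) := by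
    refine IsNoetherianRing.of_prime fun M hM => ?_
    obtain ⟨s, hs⟩ := (IsNoetherian.noetherian (M.map πE) : (M.map πE).FG)
    have hlift : ∀ b : s, ∃ z ∈ M, πE z = b.1 := fun b =>
      (Ideal.mem_map_iff_of_surjective πE hπE).1 (hs ▸ Ideal.subset_span b.2)
    choose g hgM hg using hlift
    refine ⟨insert e (s.attach.image g), le_antisymm ?_ fun z hz => ?_⟩
    · refine Ideal.span_le.2 fun z hz => ?_
      simp only [Finset.coe_insert, Finset.coe_image, Set.mem_insert_iff, Set.mem_image] at hz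
      rcases hz with rfl | ⟨b, -, rfl⟩
      · exact hprime M hM e (RingHom.mem_ker.1 j₀.2)
      · exact hgM b
    · let G : Ideal (P ⧸ N) := Ideal.span (insert e (s.attach.image g) : Finset (P ⧸ N))
      have hle : M.map πE ≤ G.map πE := hs ▸ Ideal.span_le.2 fun b hb => by
        have h1 : πE (g ⟨b, hb⟩) ∈ G.map πE := Ideal.mem_map_of_mem _ (Ideal.subset_span (Finset.mem_coe.2
          (Finset.mem_insert_of_mem (Finset.mem_image_of_mem g (Finset.mem_attach _ _)))))
        rwa [show πE (g ⟨b, hb⟩) = b from hg ⟨b, hb⟩] at h1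
      obtain ⟨z', hz', hzz⟩ := (Ideal.mem_map_iff_of_surjective πE hπE).1 (hle (Ideal.mem_map_of_mem πE hz))
      have h1 : z - z' ∈ Ideal.span {e} := hker _ (by rw [map_sub, hzz, sub_self])
      have h2 : Ideal.span {e} ≤ G := Ideal.span_mono (by simp)
      simpa [G] using add_mem (h2 h1) hz'
  let nE : Ideal (P ⧸ N) := (maximalIdeal B).comap πE
  haveI : nE.IsMaximal := Ideal.comap_isMaximal_of_surjective πE hπE
  haveI : IsLocalRing (P ⧸ N) := IsLocalRing.of_unique_max_ideal ⟨nE, ‹_›, fun M hM => by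
    haveI : M.IsMaximal := hM
    refine Ideal.IsMaximal.eq_of_le hM (Ideal.IsMaximal.ne_top ‹nE.IsMaximal›) fun z hz => ?_
    show πE z ∈ maximalIdeal B
    refine (le_maximalIdeal ?_) (Ideal.mem_map_of_mem πE hz)
    intro htop
    obtain ⟨w, hw, hw1⟩ := (Ideal.mem_map_iff_of_surjective πE hπE).1 (htop ▸ Submodule.mem_top : (1 : B) ∈ M.map πE)
    have h1 : (1 : P ⧸ N) - w ∈ M := hprime M hM.isPrime _ (by rw [map_sub, map_one, hw1, sub_self])
    exact hM.ne_top ((Ideal.eq_top_iff_one _).2 (by simpa using add_mem h1 hw))⟩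
  obtain ⟨c, hc⟩ : ∃ c, e ∉ nE ^ c := by
    by_contra hcon
    push Not at hcon
    have he : e ∈ ⨅ c, nE ^ c := Submodule.mem_iInf _ |>.2 hcon
    rw [Ideal.iInf_pow_eq_bot_of_isLocalRing nE (Ideal.IsMaximal.ne_top ‹_›), Ideal.mem_bot,
      Ideal.Quotient.eq_zero_iff_mem, hN j₀, hj₀, map_one] at he
    exact one_ne_zero he
  let Q : Ideal P := N ⊔ n ^ c
  have hj₀Q : j₀.1 ∉ Q := fun hj => hc <| by
    have h1 : n.map q ≤ nE := Ideal.map_le_iff_le_comap.2 fun x hx => hx
    have h2 := Ideal.mem_map_of_mem q hj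
    rw [Ideal.map_sup, Ideal.map_quotient_self, bot_sup_eq, Ideal.map_pow] at h2
    exact Ideal.pow_right_mono h1 c h2
  have hQn : Q ≤ n := sup_le (hNJ.trans hJn) (Ideal.pow_le_self fun h' => hc (by simp [h']))
  have key : ∀ j : J, j.1 ∈ Q → h j = 0 := fun j hj => by
    obtain ⟨y, hy⟩ := hdec j
    have hyj : y * j₀.1 ∈ Q := by simpa using sub_mem hj (le_sup_left (b := n ^ c) hy)
    have hval : h j = Ideal.Quotient.mk n y := by
      have h1 := (hN (j - y • j₀)).1 hy
      rw [map_sub, map_smul, hj₀, sub_eq_zero] at h1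
      rw [h1]
      exact congrArg (Ideal.Quotient.mk n) (mul_one y)
    rw [hval, Ideal.Quotient.eq_zero_iff_mem]
    by_contra hyn
    obtain ⟨y', i, hi, hy'⟩ := hn.exists_inv hyn
    refine hj₀Q ?_
    rw [← one_mul j₀.1, ← hy', add_mul, mul_assoc]
    refine add_mem (Ideal.mul_mem_left _ _ hyj) (le_sup_left (b := n ^ c) ((hN (i • j₀)).2 ?_))
    rw [map_smul]
    exact smul_quotient_eq_zero hi _
  -- lift the tautological map
  let C := P ⧸ Q
  let φ : P →ₐ[A] C := Ideal.Quotient.mkₐ A Q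
  let J' : Ideal C := J.map φ
  have hJ'2 : J' ^ 2 = ⊥ := by
    rw [← Ideal.map_pow, Ideal.map_eq_bot_iff_le_ker, pow_two, Ideal.mul_le]
    intro x hx y hy
    refine Ideal.Quotient.eq_zero_iff_mem.2 (le_sup_left (b := n ^ c) ((hN (x • ⟨y, hy⟩)).2 ?_))
    rw [map_smul]
    exact smul_quotient_eq_zero (hJn hx) _
  let ψ₀ : (P ⧸ RingHom.ker π) →ₐ[A] C ⧸ J' :=
    Ideal.Quotient.liftₐ (RingHom.ker π) ((Ideal.Quotient.mkₐ A J').comp φ)
      fun x hx => Ideal.Quotient.eq_zero_iff_mem.2 (Ideal.mem_map_of_mem φ hx)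
  let ψ : B →ₐ[A] C ⧸ J' := ψ₀.comp (Ideal.quotientKerAlgEquivOfSurjective hπ).symm.toAlgHom
  have hψ : ∀ x, ψ (π x) = Ideal.Quotient.mk J' (φ x) := fun x => by
    have h1 : (Ideal.quotientKerAlgEquivOfSurjective hπ).symm (π x) = Ideal.Quotient.mk _ x :=
      (Ideal.quotientKerAlgEquivOfSurjective hπ).symm_apply_eq.2 rfl
    exact congrArg ψ₀ h1
  have hkill : ∀ b ∈ maximalIdeal B ^ c, ψ b = 0 := fun b hb => by
    rw [← Ideal.map_comap_of_surjective π hπ (maximalIdeal B), ← Ideal.map_pow,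
      Ideal.mem_map_iff_of_surjective π hπ] at hb
    obtain ⟨x, hx, rfl⟩ := hb
    rw [hψ, show φ x = 0 from Ideal.Quotient.eq_zero_iff_mem.2 (le_sup_right (a := N) hx), map_zero]
  have hψs : Function.Surjective ψ := fun z => by
    obtain ⟨y, rfl⟩ := Ideal.Quotient.mk_surjective z
    obtain ⟨x, rfl⟩ := Ideal.Quotient.mk_surjective y
    exact ⟨π x, hψ x⟩
  -- `C` is an Artinian local ring and `J'` is simple
  let g : P ⧸ N →+* C := Ideal.Quotient.factor (le_sup_left (b := n ^ c))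
  have hg : Function.Surjective g := Ideal.Quotient.factor_surjective _
  haveI : Nontrivial C := Ideal.Quotient.nontrivial_iff.2 fun htop =>
    Ideal.IsMaximal.ne_top hn (top_le_iff.1 (htop ▸ hQn))
  haveI : IsLocalRing C := IsLocalRing.of_surjective' g hg
  haveI : IsLocalHom g := IsLocalHom.of_surjective g hg
  haveI : IsNoetherianRing C := isNoetherianRing_of_surjective _ _ g hg
  have hmC : maximalIdeal C = n.map φ := by
    refine (IsLocalRing.eq_maximalIdeal ((Ideal.map_eq_top_or_isMaximal_of_surjective φ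
      Ideal.Quotient.mk_surjective hn).resolve_left fun htop => ?_)).symm
    have h1 : n.map φ = n.map (Ideal.Quotient.mk Q) := rfl
    rw [h1, Ideal.eq_top_iff_one, ← map_one (Ideal.Quotient.mk Q),
      Ideal.mem_quotient_iff_mem hQn] at htop
    exact hn.ne_top ((Ideal.eq_top_iff_one _).2 htop)
  have hnil : IsNilpotent (maximalIdeal C) := ⟨c, by
    rw [hmC, ← Ideal.map_pow, Submodule.zero_eq_bot, Ideal.map_eq_bot_iff_le_ker]
    exact fun x hx => Ideal.Quotient.eq_zero_iff_mem.2 (le_sup_right (a := N) hx)⟩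
  haveI : IsArtinianRing C := (isArtinianRing_iff_isNilpotent_maximalIdeal C).2 hnil
  have hsp : J' = Submodule.span C {φ j₀.1} := by
    refine le_antisymm (Ideal.map_le_iff_le_comap.2 fun x hx => ?_) ?_
    · obtain ⟨y, hy⟩ := hdec ⟨x, hx⟩
      refine Submodule.mem_span_singleton.2 ⟨φ y, ?_⟩
      rw [smul_eq_mul, ← map_mul]
      exact (Ideal.Quotient.eq.2 (le_sup_left (b := n ^ c) hy)).symm
    · rw [Submodule.span_singleton_le_iff_mem]
      exact Ideal.mem_map_of_mem φ j₀.2
  have hann : LinearMap.ker (LinearMap.toSpanSingleton C C (φ j₀.1)) = maximalIdeal C := by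
    refine le_antisymm (IsLocalRing.le_maximalIdeal fun htop => ?_) fun z hz => ?_
    · have h1 : (1 : C) ∈ LinearMap.ker (LinearMap.toSpanSingleton C C (φ j₀.1)) := htop ▸ Submodule.mem_top
      rw [LinearMap.mem_ker, LinearMap.toSpanSingleton_apply, one_smul] at h1
      exact hj₀Q (Ideal.Quotient.eq_zero_iff_mem.1 h1)
    · rw [hmC, Ideal.mem_map_iff_of_surjective φ Ideal.Quotient.mk_surjective] at hz
      obtain ⟨x, hx, rfl⟩ := hz
      rw [LinearMap.mem_ker, LinearMap.toSpanSingleton_apply, smul_eq_mul, ← map_mul]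
      refine Ideal.Quotient.eq_zero_iff_mem.2 (le_sup_left (b := n ^ c) ((hN (x • j₀)).2 ?_))
      rw [map_smul]
      exact smul_quotient_eq_zero hx _
  have hlen : Module.length C J' = 1 := by
    rw [Module.length_eq_one_iff]
    haveI : IsSimpleModule C (C ⧸ LinearMap.ker (LinearMap.toSpanSingleton C C (φ j₀.1))) := by
      rw [hann, isSimpleModule_iff_isCoatom]
      exact (IsLocalRing.maximalIdeal.isMaximal C).out
    exact IsSimpleModule.congr (((LinearMap.toSpanSingleton C C (φ j₀.1)).quotKerEquivRange.trans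
      (LinearEquiv.ofEq _ _ (by rw [hsp, LinearMap.range_toSpanSingleton]))).symm)
  obtain ⟨χ, hχ⟩ := hFS C J' hJ'2 hlen ψ ⟨c, hkill⟩ hψs
  have hex : ∀ x, ∃ j : J, φ j.1 = φ x - χ (π x) := fun x => by
    have h1 : φ x - χ (π x) ∈ J' := by
      rw [← Ideal.Quotient.eq_zero_iff_mem, map_sub]
      have h2 := AlgHom.congr_fun hχ (π x)
      rw [hψ] at h2
      exact sub_eq_zero.2 h2.symm
    obtain ⟨j, hj, hje⟩ := (Ideal.mem_map_iff_of_surjective φ Ideal.Quotient.mk_surjective).1 h1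
    exact ⟨⟨j, hj⟩, hje⟩
  choose d hd using hex
  have huniq : ∀ x (j : J), φ j.1 = φ x - χ (π x) → h (d x) = h j := fun x j hj => by
    rw [← sub_eq_zero, ← map_sub]
    refine key _ (Ideal.Quotient.eq.1 ?_)
    exact (hd x).trans hj.symm
  let D : P →ₗ[A] P ⧸ n :=
    { toFun := fun x => h (d x)
      map_add' := fun x y => by
        rw [← map_add]
        refine huniq _ _ ?_
        show φ ((d x).1 + (d y).1) = _
        simp only [map_add, hd]
        ring
      map_smul' := fun a x => by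
        rw [RingHom.id_apply, ← algebraMap_smul P a (h (d x)), ← map_smul]
        refine huniq _ _ ?_
        show φ (algebraMap A P a • (d x).1) = _
        simp only [smul_eq_mul, map_mul, Algebra.smul_def, hd, AlgHom.commutes]
        ring }
  refine ⟨Derivation.mk' D fun x y => ?_, fun j => huniq j.1 j ?_⟩
  · obtain ⟨y', hy'⟩ : ∃ y' : P, φ y' = χ (π y) := Ideal.Quotient.mk_surjective _
    show h (d (x * y)) = x • h (d y) + y • h (d x)
    have hyy : ∀ z : P ⧸ n, y' • z = y • z := fun z => by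
      rw [← sub_eq_zero, ← sub_smul]
      refine smul_quotient_eq_zero ?_ z
      have h1 : φ (y - y' - (d y).1) = 0 := by rw [map_sub, map_sub, hd, hy', sub_self]
      have h2 : y - y' ∈ n := by simpa using add_mem (hQn (Ideal.Quotient.eq_zero_iff_mem.1 h1)) (hJn (d y).2)
      simpa using neg_mem h2
    rw [← hyy, ← map_smul, ← map_smul, ← map_add]
    refine huniq _ _ ?_
    show φ (x * (d y).1 + y' * (d x).1) = _
    simp only [map_add, map_mul, hd, hy']
    ring
  · rw [RingHom.mem_ker.1 j.2, map_zero, sub_zero]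

theorem adicFS_of_smallLift [IsLocalRing B] [IsNoetherianRing B] (hFS : SmallLift A B) :
    CAlgX.IsAdicFormallySmooth A B (maximalIdeal B) :=
  adicFS_of_derExt (MvPolynomial.aeval (R := A) fun b : B => b) (fun b => ⟨.X b, MvPolynomial.aeval_X _ _⟩)
    (derExt_of_smallLift _ (fun b => ⟨.X b, MvPolynomial.aeval_X _ _⟩) hFS)

end AdicFSLib
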